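import Cfsg.Agent.Lib.Blocks.TwoChars
import Cfsg.Agent.Lib.FreeInertia.Local
import Cfsg.Agent.Lib.BrauerPairs.NilpotentBlock

/-!
# The centre of a block modulo `M`

* `finrank_centreBlk`: its dimension is the number of characters of the block.
* `exists_eq_sum_single_mul`: for an abelian defect group `P` of a maximal pair `(P, e)` the centre of
  the block `e` of `C(P)` is spanned by the elements `u e`, `u ∈ P`.
-/

set_option autoImplicit false
set_option linter.unusedSectionVars false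
set_option linter.style.haveILetI false
set_option synthInstance.maxHeartbeats 200000
set_option maxHeartbeats 400000

namespace Cfsg.Agent.BrauerChar

open Cfsg Cfsg.Agent.Blocks MonoidAlgebra
open Cfsg.Agent.Blocks.TwoChars (rep mk_rep classMat classMat_map_val coordMat coordMat_mul_valMat
  classFunctional classFunctional_single tr_classFunctional tr_single_conj apply_idem_mul_single lin_ext
  valMat)
open Cfsg.Agent.BrauerPairs (IsPairOf IsPair IsMax PLE blk blkG incl centerIn fixedBy suppIn IsBlockIdem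
  DefectIn)
open scoped Classical Cfsg.Agent.Blocks Matrix

universe u

variable {M : Ideal AlgInt} [M.IsMaximal] {p : ℕ} [hp : Fact p.Prime]
variable {G : Type u} [Group G] [Fintype G] {B : Set (IrrCharacter G)}

/-- The coefficient at `1`, a symmetrizing form. -/
noncomputable def tau (K : Type*) [CommRing K] (H : Type u) [Group H] :
    MonoidAlgebra K H →ₗ[K] K where
  toFun z := z.coeff 1
  map_add' _ _ := rfl
  map_smul' _ _ := rfl

theorem tau_apply {K : Type*} [CommRing K] (z : MonoidAlgebra K G) : tau K G z = z.coeff 1 := rfl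

theorem tau_comm {K : Type*} [CommRing K] (x y : MonoidAlgebra K G) :
    tau K G (x * y) = tau K G (y * x) := by
  rw [tau_apply, tau_apply, coeff_mul_eq_sum, coeff_mul_eq_sum']
  exact Finset.sum_congr rfl fun z _ => by rw [mul_one, one_mul, mul_comm]

theorem tau_mul_single {K : Type*} [CommRing K] (x : MonoidAlgebra K G) (g : G) :
    tau K G (x * single g 1) = x.coeff g⁻¹ := by
  rw [tau_apply, coeff_mul_single', one_mul, mul_one]

theorem exists_tau_ne_zero {K : Type*} [CommRing K] {x : MonoidAlgebra K G} (hx : x ≠ 0) :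
    ∃ y, tau K G (x * y) ≠ 0 := by
  obtain ⟨g, hg⟩ : ∃ g, x.coeff g ≠ 0 := by
    by_contra h
    push Not at h
    exact hx (alg_ext fun g => by simpa using h g)
  exact ⟨single g⁻¹ 1, by rwa [tau_mul_single, inv_inv]⟩

variable (M) in
/-- The centre of a block. -/
noncomputable def centreBlk (B : Set (IrrCharacter G)) :
    Submodule (AlgInt ⧸ M) (MonoidAlgebra (AlgInt ⧸ M) G) where
  carrier := {z | IsCentralElt z ∧ z * blkG M B = z}
  zero_mem' := ⟨isCentralElt_zero, zero_mul _⟩
  add_mem' ha hb := ⟨ha.1.add hb.1, by rw [add_mul, ha.2, hb.2]⟩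
  smul_mem' c _ ha := ⟨ha.1.smul c, by rw [smul_mul_assoc, ha.2]⟩

theorem finrank_centreBlk (hpM : (p : AlgInt) ∈ M) (hB : IsPBlock M B) :
    Module.finrank (AlgInt ⧸ M) (centreBlk M B) = Nat.card B := by
  have hpM' : ∃ p : ℕ, p.Prime ∧ (p : AlgInt) ∈ M := ⟨p, hp.out, hpM⟩
  set E := classMat hB
  have hEC : IsIdempotentElem ((classMat hB).map (localInt M).subtype) := by
    rw [classMat_map_val hpM' hB, IsIdempotentElem, Matrix.mul_assoc, ← Matrix.mul_assoc (coordMat B),
      coordMat_mul_valMat, Matrix.one_mul]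
  have hE : IsIdempotentElem E := by
    ext K L : 1
    apply Subtype.val_injective
    have := congrFun (congrFun hEC.eq K) L
    rw [← Matrix.map_mul] at this
    simpa using this
  have hrankE : (E.map (redHom M)).rank = Nat.card B := by
    rw [rank_map_redHom_of_isIdempotentElem hE]
    have h := rank_eq_trace hEC
    rw [classMat_map_val hpM' hB, Matrix.trace_mul_comm, coordMat_mul_valMat, Matrix.trace_one,
      ← Nat.card_eq_fintype_card] at h
    rw [classMat_map_val hpM' hB]
    exact_mod_cast h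
  let res : MonoidAlgebra (AlgInt ⧸ M) G →ₗ[AlgInt ⧸ M] (ConjClasses G → AlgInt ⧸ M) :=
    LinearMap.pi fun K => (tau (AlgInt ⧸ M) G) ∘ₗ
      LinearMap.mulRight (AlgInt ⧸ M) (single (rep K) (1 : AlgInt ⧸ M))
  have hres : ∀ z K, res z K = z.coeff (rep K)⁻¹ := fun z K => by
    show tau (AlgInt ⧸ M) G (z * single (rep K) 1) = _
    rw [tau_mul_single]
  have htr : ∀ z, IsCentralElt z → ∀ x y,
      tau (AlgInt ⧸ M) G (z * (x * y)) = tau (AlgInt ⧸ M) G (z * (y * x)) := fun z hz x y => by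
    rw [← mul_assoc, tau_comm, ← mul_assoc, ← (hz.commute y).eq, mul_assoc]
  have hfix : ∀ z ∈ centreBlk M B, (E.map (redHom M)) *ᵥ res z = res z := fun z hz => funext fun K => by
    let τ := (tau (AlgInt ⧸ M) G) ∘ₗ LinearMap.mulLeft (AlgInt ⧸ M) z
    refine (apply_idem_mul_single hB τ (htr z hz.1) K).symm.trans ?_
    show tau (AlgInt ⧸ M) G (z * (redA M (blockIdem B) * single (rep K) 1)) = _
    rw [← mul_assoc, show z * redA M (blockIdem B) = z from hz.2]
    rfl
  have hinj : Function.Injective (res.domRestrict (centreBlk M B)) := by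
    rw [injective_iff_map_eq_zero]
    intro z hz
    refine Subtype.ext (alg_ext fun g => ?_)
    have h := congrFun hz (ConjClasses.mk g⁻¹)
    rw [LinearMap.domRestrict_apply, hres] at h
    obtain ⟨c, hc⟩ := isConj_iff.1
      (ConjClasses.mk_eq_mk_iff_isConj.1 (mk_rep (ConjClasses.mk g⁻¹)))
    have h1 : g = c * (rep (ConjClasses.mk g⁻¹))⁻¹ * c⁻¹ := by
      have h2 := congrArg (·⁻¹) hc
      simp only [mul_inv_rev, inv_inv] at h2
      exact h2.symm.trans (mul_assoc _ _ _).symm
    rw [h1]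
    simpa [z.2.1 (rep (ConjClasses.mk g⁻¹))⁻¹ c] using h
  rw [← LinearMap.finrank_range_of_inj hinj, ← hrankE, Matrix.rank]
  refine congrArg (fun S : Submodule (AlgInt ⧸ M) (ConjClasses G → AlgInt ⧸ M) =>
    Module.finrank (AlgInt ⧸ M) S) (le_antisymm ?_ ?_)
  · rintro _ ⟨z, rfl⟩
    exact ⟨_, hfix z.1 z.2⟩
  rintro _ ⟨f₀, rfl⟩
  set f := (E.map (redHom M)) *ᵥ f₀
  have hf : (E.map (redHom M)) *ᵥ f = f := by
    rw [Matrix.mulVec_mulVec, ← Matrix.map_mul, hE.eq]
  set z : MonoidAlgebra (AlgInt ⧸ M) G := ofFun fun g => f (ConjClasses.mk g⁻¹) with hz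
  have hzc : IsCentralElt z := isCentralElt_ofFun fun g h => by
    rw [show (h * g * h⁻¹)⁻¹ = h * g⁻¹ * h⁻¹ by group,
      ConjClasses.mk_eq_mk_iff_isConj.2 (isConj_iff.2 ⟨h, rfl⟩ : IsConj g⁻¹ (h * g⁻¹ * h⁻¹))]
  have hτ : ∀ g, tau (AlgInt ⧸ M) G (z * single g 1) = f (ConjClasses.mk g) := fun g => by
    rw [tau_mul_single, hz, coeff_ofFun, inv_inv]
  have hresz : res z = f := funext fun K => by
    show tau (AlgInt ⧸ M) G (z * single (rep K) 1) = _
    rw [hτ, mk_rep]
  refine ⟨⟨z, hzc, ?_⟩, hresz⟩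
  -- multiplication by the idempotent fixes `z`
  by_contra hne
  obtain ⟨y, hy⟩ := exists_tau_ne_zero (sub_ne_zero.2 hne)
  refine hy ?_
  let τ := (tau (AlgInt ⧸ M) G) ∘ₗ LinearMap.mulLeft (AlgInt ⧸ M) z
  have hlin : τ ∘ₗ LinearMap.mulLeft (AlgInt ⧸ M) (blkG M B) = τ := by
    refine lin_ext fun g => ?_
    have hc0 := (isCentralElt_redA (M := M) (isCentralElt_blockIdem B)).commute
    have hconj := ConjClasses.mk_eq_mk_iff_isConj.1 (mk_rep (ConjClasses.mk g))
    obtain ⟨c, hc⟩ := isConj_iff.1 hconj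
    show tau (AlgInt ⧸ M) G (z * (redA M (blockIdem B) * single g 1)) = tau (AlgInt ⧸ M) G (z * single g 1)
    rw [show redA M (blockIdem B) * single g 1 = single c 1 *
        (redA M (blockIdem B) * single (rep (ConjClasses.mk g)) 1) * single c⁻¹ 1 by
      rw [← mul_assoc, ← (hc0 (single c 1)).eq, mul_assoc, mul_assoc]
      simp [← mul_assoc, hc],
      htr z hzc, ← mul_assoc (single c⁻¹ 1), single_mul_single, inv_mul_cancel, mul_one,
      ← MonoidAlgebra.one_def, one_mul, hτ g]
    exact ((apply_idem_mul_single hB τ (htr z hzc) _).trans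
      ((congrFun (congrArg ((E.map (redHom M)) *ᵥ ·) (hresz)) _).trans (congrFun hf _)))
  rw [sub_mul, map_sub, sub_eq_zero, mul_assoc]
  exact LinearMap.congr_fun hlin y

variable [CharP (AlgInt ⧸ M) p] {P : Subgroup G} {e : MonoidAlgebra (AlgInt ⧸ M) G}

/-- The block of `C(P)` of a maximal pair with abelian `P` has at most `|P|` characters. -/
theorem exists_central_block (hM : IsPModular p M) (hB : IsPBlock M B)
    (ha : IsMax p (blkG M B) (P, e)) (hcomm : P ≤ Subgroup.centralizer (P : Set G)) :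
    ∃ b : Set (IrrCharacter (Subgroup.centralizer (P : Set G))), IsPBlock M b ∧
      blk M (Subgroup.centralizer (P : Set G)) b = e ∧ Nat.card b ≤ Nat.card P := by
  have hblk : ∀ H : Subgroup G, BrauerPairs.HasBlocks (AlgInt ⧸ M) H := fun H => BrauerPairs.hasBlocks M H
  have hblkC : ∀ L : Subgroup (Subgroup.centralizer (P : Set G)),
      BrauerPairs.HasBlocks (AlgInt ⧸ M) L := fun L => BrauerPairs.hasBlocks M L
  obtain ⟨b, hb, hbe⟩ := BrauerPairs.exists_eq_blk (Subgroup.centralizer (P : Set G)) ha.1.1.2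
  refine ⟨b, hb, hbe, ?_⟩
  have hrefl : PLE p (P, e) (P, e) := Relation.ReflTransGen.refl
  have hst := BrauerPairs.step_of_ple_comm hblk ha.1.1 hcomm hrefl
  have hD := BrauerPairs.defectIn_centralizer_of_comm hblk (BrauerPairs.isBlockIdem_blkG hB) ha
    hcomm hrefl
  obtain ⟨e', he', -⟩ := BrauerPairs.exists_maximalPair_sub hb (by rw [hbe]; exact hD)
    le_rfl hb (by rw [hbe]; exact hst.2.2.2.2.2)
  have hmax' := ((BrauerPairs.isMaximalBrauerPair_iff hb).1 he').2
  have hnil : IsNilpotentBlock p M b := (BrauerPairs.isNilpotentBlock_iff hb).2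
    (BrauerPairs.isNilpotentPairs_of_inner hblkC (BrauerPairs.isBlockIdem_blkG hb) hmax'
      fun g A hg => ⟨1, one_mem _, fun r hr => by
        refine Subtype.ext ?_
        simp only [one_mul, inv_one, mul_one, Subgroup.coe_mul, Subgroup.coe_inv]
        rw [← Subgroup.mem_centralizer_iff.1 g.2 r (Subgroup.mem_subgroupOf.1 (hg.1 hr)),
          mul_inv_cancel_right]⟩)
  obtain ⟨ν, d, href⟩ := FreeInertia.exists_ref hM hnil
  have hq : p ^ blockDefect p b = Nat.card P := by
    rw [← card_defectGroup hM.2.2 hb ((BrauerPairs.isDefectGroup_subgroupOf_iff hb hcomm).2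
        (by rwa [hbe])), Nat.card_congr (Subgroup.subgroupOfEquivOfLe hcomm).toEquiv]
  rw [← hq, ← href.sum_sq, Nat.card_eq_fintype_card, Fintype.card_subtype, Finset.card_eq_sum_ones]
  refine Finset.sum_le_sum fun η hη => ?_
  refine Nat.one_le_iff_ne_zero.2 (pow_ne_zero 2 fun h0 => ?_)
  have h := href.reg η (Finset.mem_filter.1 hη).2 1 FreeInertia.isPRegular_one
  rw [h0, Nat.cast_zero, zero_mul] at h
  exact irr_one_ne_zero η h

theorem single_mul_mem_centerIn {b : Set (IrrCharacter (Subgroup.centralizer (P : Set G)))}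
    (hb : IsPBlock M b) (hcomm : P ≤ Subgroup.centralizer (P : Set G)) (u : P) :
    ∃ w ∈ centreBlk M b, incl (Subgroup.centralizer (P : Set G)) (AlgInt ⧸ M) w =
      single (u : G) 1 * blk M (Subgroup.centralizer (P : Set G)) b := by
  set u' : Subgroup.centralizer (P : Set G) := ⟨u, hcomm u.2⟩
  refine ⟨single u' 1 * blkG M b, ⟨IsCentralElt.mul ?_
    (isCentralElt_redA (isCentralElt_blockIdem b)), ?_⟩, ?_⟩
  · intro g h
    simp only [MonoidAlgebra.coeff_single, Finsupp.single_apply]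
    have hu : h * u' * h⁻¹ = u' := Subtype.ext (by
      show (h : G) * u * (h : G)⁻¹ = u
      rw [← Subgroup.mem_centralizer_iff.1 h.2 u u.2, mul_inv_cancel_right])
    refine if_congr ⟨fun h' => ?_, fun h' => ?_⟩ rfl rfl
    · exact (mul_left_cancel (mul_right_cancel (hu.trans h'))).symm ▸ rfl
    · rw [← h', hu]
  · rw [mul_assoc, BrauerPairs.blkG_mul_self hb]
  · rw [map_mul]
    congr 1
    exact MonoidAlgebra.mapDomain_single

/-- The centre of the block `e` of `C(P)` is spanned by the elements `u e`. -/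
theorem exists_eq_sum_single_mul (hM : IsPModular p M) (hB : IsPBlock M B)
    (ha : IsMax p (blkG M B) (P, e)) (hcomm : P ≤ Subgroup.centralizer (P : Set G)) :
    (∀ f : P → AlgInt ⧸ M, ∑ u : P, f u • (single (u : G) 1 * e) = 0 → f = 0) ∧
    ∀ y ∈ centerIn (AlgInt ⧸ M) (Subgroup.centralizer (P : Set G)), y * e = y →
      ∃ f : P → AlgInt ⧸ M, y = ∑ u : P, f u • (single (u : G) 1 * e) := by
  obtain ⟨b, hb, hbe, hcard⟩ := exists_central_block hM hB ha hcomm
  have hpM := hM.2.2
  -- independence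
  obtain ⟨s₀, hs₀⟩ : ∃ s₀, (blkG M b).coeff s₀ ≠ 0 := by
    by_contra h
    push Not at h
    exact BrauerPairs.blkG_ne_zero hb (alg_ext fun g => by simpa using h g)
  have hreg : ∀ s : Subgroup.centralizer (P : Set G), (blkG M b).coeff s ≠ 0 → IsPRegular p s := by
    intro s hs
    by_contra hn
    refine hs ?_
    rw [BrauerPairs.coeff_blkG, blockCoeff_eq_zero hpM hb hn, red_zero]
  have hzero : ∀ (u v : P), v ≠ u →
      (single (v : G) (1 : AlgInt ⧸ M) * e).coeff ((u : G) * s₀) = 0 := by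
    intro u v huv
    rw [coeff_single_mul', one_mul, ← hbe]
    have hmem : (v : G)⁻¹ * ((u : G) * s₀) ∈ Subgroup.centralizer (P : Set G) :=
      mul_mem (inv_mem (hcomm v.2)) (mul_mem (hcomm u.2) s₀.2)
    rw [show (v : G)⁻¹ * ((u : G) * s₀) = ((⟨_, hmem⟩ : Subgroup.centralizer (P : Set G)) : G) from rfl]
    unfold blk
    rw [BrauerPairs.coeff_incl_coe]
    by_contra hne
    have h1 : IsPRegular p (⟨_, hmem⟩ : Subgroup.centralizer (P : Set G)) := hreg _ hne
    refine huv ?_
    have h0 := hreg s₀ hs₀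
    have h2 : IsPPart p ((v : G)⁻¹ * (u * s₀)) ((v : G)⁻¹ * u) := by
      rw [← mul_assoc]
      refine isPPart_mul ?_ ?_ (fun hd => h0 (by rwa [Subgroup.orderOf_coe] at hd))
      · exact (Subgroup.mem_centralizer_iff.1 s₀.2 _ (mul_mem (inv_mem v.2) u.2))
      · obtain ⟨j, hj⟩ := IsPGroup.iff_orderOf.1 ha.1.1.1 (v⁻¹ * u)
        exact ⟨j, by rw [← hj, ← Subgroup.orderOf_coe]; rfl⟩
    have h3 : IsPPart p ((v : G)⁻¹ * (u * s₀)) 1 := by
      refine ⟨_, one_mul _, Commute.one_left _, ⟨0, by simp⟩, ?_⟩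
      intro hd
      exact h1 (by rw [← Subgroup.orderOf_coe]; exact hd)
    have h4 := IsPPart.unique h2 h3
    exact Subtype.ext (inv_mul_eq_one.1 h4)
  have hself : ∀ u : P, (single (u : G) (1 : AlgInt ⧸ M) * e).coeff ((u : G) * s₀) ≠ 0 := fun u => by
    rw [coeff_single_mul', one_mul, inv_mul_cancel_left, ← hbe]
    unfold blk
    rw [BrauerPairs.coeff_incl_coe]
    exact hs₀
  have hind : ∀ f : P → AlgInt ⧸ M, ∑ u : P, f u • (single (u : G) 1 * e) = 0 → f = 0 := by
    intro f hf
    funext u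
    have h := congrArg (fun z => MonoidAlgebra.coeff z ((u : G) * s₀)) hf
    simp only [MonoidAlgebra.coeff_sum, Finsupp.coe_finsetSum, Finset.sum_apply,
      MonoidAlgebra.coeff_smul, Finsupp.coe_smul, Pi.smul_apply, smul_eq_mul,
      MonoidAlgebra.coeff_zero, Finsupp.coe_zero, Pi.zero_apply] at h
    rw [Finset.sum_eq_single u (fun v _ hv => by rw [hzero u v hv, mul_zero])
      (fun h => absurd (Finset.mem_univ u) h)] at h
    exact (mul_eq_zero.1 h).resolve_right (hself u)
  refine ⟨hind, fun y hy hye => ?_⟩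
  -- spanning
  set W := (centreBlk M b).map (incl (Subgroup.centralizer (P : Set G)) (AlgInt ⧸ M)).toLinearMap
  let Φ : (P → AlgInt ⧸ M) →ₗ[AlgInt ⧸ M] MonoidAlgebra (AlgInt ⧸ M) G :=
    ∑ u : P, (LinearMap.proj u).smulRight (single (u : G) (1 : AlgInt ⧸ M) * e)
  have hΦ : ∀ f, Φ f = ∑ u : P, f u • (single (u : G) 1 * e) := fun f => by simp [Φ]
  haveI : Module.Finite (AlgInt ⧸ M) (MonoidAlgebra (AlgInt ⧸ M) (Subgroup.centralizer (P : Set G))) :=
    TwoChars.moduleFinite
  haveI : Module.Finite (AlgInt ⧸ M) (MonoidAlgebra (AlgInt ⧸ M) G) := TwoChars.moduleFinite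
  have hle : LinearMap.range Φ ≤ W := by
    rintro _ ⟨f, rfl⟩
    rw [hΦ]
    refine Submodule.sum_mem _ fun u _ => Submodule.smul_mem _ _ ?_
    obtain ⟨w, hw, hw'⟩ := single_mul_mem_centerIn hb hcomm u
    exact ⟨w, hw, by rw [← hbe]; exact hw'⟩
  have heq : LinearMap.range Φ = W := by
    refine Submodule.eq_of_le_of_finrank_le hle ?_
    rw [LinearMap.finrank_range_of_inj
      ((injective_iff_map_eq_zero Φ).2 fun f h => hind f (by rw [← hΦ, h])),
      Module.finrank_fintype_fun_eq_card, ← Nat.card_eq_fintype_card]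
    exact ((Submodule.finrank_map_le _ _).trans (finrank_centreBlk hpM hb).le).trans hcard
  obtain ⟨w, hwc, rfl⟩ := BrauerPairs.exists_eq_incl (Subgroup.centralizer (P : Set G)) hy
  have hwmem : (incl (Subgroup.centralizer (P : Set G)) (AlgInt ⧸ M) w) ∈ W := by
    refine ⟨w, ⟨hwc, ?_⟩, rfl⟩
    · refine BrauerPairs.incl_injective (Subgroup.centralizer (P : Set G)) ?_
      rw [map_mul]
      conv_rhs => rw [← hye, ← hbe]
      rfl
  rw [← heq] at hwmem
  obtain ⟨f, hf⟩ := hwmem
  exact ⟨f, by rw [← hf, hΦ]⟩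

end Cfsg.Agent.BrauerChar
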