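import Cfsg.Agent.Lib.BrauerChar.Decomp

/-!
# A block algebra with one simple module and a large centre

* `exists_matrixUnits`: exact matrix units of a block with one simple module.
* `exists_mul_eq_smul`: if the centre is as large as the corner allows, every nonzero central element
  has a central multiple that is a nonzero multiple of the element dual to the trace of the simple.
-/

set_option autoImplicit false
set_option linter.unusedSectionVars false
set_option linter.style.haveILetI false

namespace Cfsg.Agent.BrauerChar.Simples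

open Cfsg.Agent.Blocks.LocalRankTwo (isNilpotent_of_mem radPow mem_radPow exists_radPow_eq_bot)
open Module (finrank)
open scoped Classical

universe v w

variable {k : Type v} [Field k] {R : Type w} [Ring R] [Algebra k R] [FiniteDimensional k R]
  (S : Simples k R)

/-- Exact matrix units of a block with a single simple quotient `i`. -/
theorem exists_matrixUnits (i : Fin S.n) {e0 : R} (he : IsIdempotentElem e0)
    (hc : ∀ x, Commute e0 x) (hi : S.π i e0 = 1) (honly : ∀ j, j ≠ i → S.π j e0 = 0) :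
    ∃ (ε : R) (u v : Fin (S.d i) → R), ε * e0 = ε ∧ IsIdempotentElem ε ∧
      (∀ a, u a * ε = u a) ∧ (∀ a, ε * v a = v a) ∧
      (∀ a b, v a * u b = if a = b then ε else 0) ∧ ∑ a, u a * v a = e0 ∧
      Matrix.trace (S.π i ε) = 1 := by
  obtain ⟨hη, hπ⟩ := S.diag_spec
  set o : Fin (S.d i) := ⟨0, S.pos i⟩
  have hkill : ∀ x : R, IsIdempotentElem x → (∀ j, S.π j x = 0) → x = 0 := fun x hx h =>
    BrauerPairs.eq_zero_of_idem_nilpotent hx.eq (isNilpotent_of_mem k (S.ker x h))
  have hεe0 : ∀ a, S.diag ⟨i, a⟩ * e0 = S.diag ⟨i, a⟩ := by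
    intro a
    refine (sub_eq_zero.1 (hkill _ ?_ fun j => ?_)).symm
    · have h := (hη.idem (⟨i, a⟩ : Σ i, Fin (S.d i))).mul_of_commute
        ((Commute.one_right _).sub_right (hc _).symm) he.one_sub
      rwa [mul_sub, mul_one] at h
    · rw [map_sub, map_mul]
      by_cases hj : j = i
      · subst hj; rw [hi, mul_one, sub_self]
      · rw [honly j hj, mul_zero, hπ, Pi.single_eq_of_ne hj, sub_zero]
  have hout : ∀ ja : Σ j, Fin (S.d j), ja.1 ≠ i → S.diag ja * e0 = 0 := by
    intro ja hja
    refine hkill _ ((hη.idem ja).mul_of_commute (hc _).symm he) fun j => ?_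
    rw [map_mul]
    by_cases hj : j = i
    · subst hj; rw [hπ, Pi.single_eq_of_ne (Ne.symm hja), zero_mul]
    · rw [honly j hj, mul_zero]
  have hsum : ∑ a, S.diag ⟨i, a⟩ = e0 := by
    conv_rhs => rw [← one_mul e0, ← hη.complete, Finset.sum_mul]
    rw [Fintype.sum_sigma, Finset.sum_eq_single i]
    · exact Finset.sum_congr rfl fun a _ => (hεe0 a).symm
    · exact fun j _ hj => Finset.sum_eq_zero fun b _ => hout ⟨j, b⟩ hj
    · exact fun h => absurd (Finset.mem_univ i) h
  have hequiv : ∀ a, ∃ x y : R, x * y = S.diag ⟨i, a⟩ ∧ y * x = S.diag ⟨i, o⟩ := fun a =>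
    S.exists_equiv (hη.idem _) (hη.idem _) fun j => by rw [S.rank_pi_diag, S.rank_pi_diag]
  choose x y hxy hyx using hequiv
  set ε := S.diag (⟨i, o⟩ : Σ i, Fin (S.d i)) with hε
  have hεε : ε * ε = ε := (hη.idem _).eq
  refine ⟨ε, fun a => S.diag ⟨i, a⟩ * x a * ε, fun a => ε * y a * S.diag ⟨i, a⟩, hεe0 o,
    hη.idem _, fun a => ?_, fun a => ?_, fun a b => ?_, ?_, ?_⟩
  · rw [mul_assoc, (hη.idem _).eq]
  · rw [← mul_assoc, ← mul_assoc, (hη.idem _).eq]
  · have h1 : ε * y a * S.diag ⟨i, a⟩ * (S.diag ⟨i, b⟩ * x b * ε) =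
        ε * y a * (S.diag ⟨i, a⟩ * S.diag ⟨i, b⟩) * x b * ε := by simp only [mul_assoc]
    rw [h1]
    split_ifs with hab
    · subst hab
      rw [(hη.idem _).eq, ← hxy a,
        show ε * y a * (x a * y a) * x a * ε = ε * (y a * x a) * (y a * x a) * ε by
          simp only [mul_assoc], hyx a, (hη.idem _).eq, (hη.idem _).eq, (hη.idem _).eq]
    · rw [hη.ortho (fun h : (⟨i, a⟩ : Σ i, Fin (S.d i)) = ⟨i, b⟩ => hab (by simpa using h))]
      simp
  · rw [← hsum]
    refine Finset.sum_congr rfl fun a _ => ?_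
    rw [show S.diag ⟨i, a⟩ * x a * ε * (ε * y a * S.diag ⟨i, a⟩) =
      S.diag ⟨i, a⟩ * x a * (ε * ε) * y a * S.diag ⟨i, a⟩ by simp only [mul_assoc],
      hεε, ← hyx a,
      show S.diag ⟨i, a⟩ * x a * (y a * x a) * y a * S.diag ⟨i, a⟩ =
        S.diag ⟨i, a⟩ * (x a * y a) * (x a * y a) * S.diag ⟨i, a⟩ by simp only [mul_assoc],
      hxy a, (hη.idem _).eq, (hη.idem _).eq, (hη.idem _).eq]
  · rw [hε, hπ, Pi.single_eq_same, Matrix.trace_single_eq_same]

/-- A central element in a block with one simple module is a scalar plus a radical element. -/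
theorem exists_scalar (i : Fin S.n) {z : R} (hz : ∀ x, Commute z x) :
    ∃ c : k, S.π i z = c • (1 : Matrix (Fin (S.d i)) (Fin (S.d i)) k) := by
  haveI : Nonempty (Fin (S.d i)) := ⟨⟨0, S.pos i⟩⟩
  obtain ⟨c, hc'⟩ := (Matrix.mem_range_scalar_iff_commute_single (M := S.π i z)).2 fun a b _ => by
    obtain ⟨x, hx⟩ := S.surj (Pi.single i (Matrix.single a b 1))
    have h := (hz x).symm.map (S.π i)
    rwa [hx, Pi.single_eq_same] at h
  exact ⟨c, by rw [← hc', Matrix.smul_one_eq_diagonal, Matrix.scalar_apply]⟩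

/-- If the centre of a block with one simple module `i` has dimension at least that of the corner,
every nonzero central element has a multiple proportional to the dual of the trace of `i`. -/
theorem exists_mul_eq_smul (i : Fin S.n) {e0 : R} (he : IsIdempotentElem e0)
    (hc : ∀ x, Commute e0 x) (hi : S.π i e0 = 1) (honly : ∀ j, j ≠ i → S.π j e0 = 0) {m : ℕ}
    (hdim : finrank k (LinearMap.range (LinearMap.mulRight k e0)) ≤ m * S.d i ^ 2)
    (W : Submodule k R) (hW : ∀ z ∈ W, (∀ x, Commute z x) ∧ z * e0 = z) (hWm : m ≤ finrank k W)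
    (τ₀ : R →ₗ[k] k) (htr : ∀ x y, τ₀ (x * y) = τ₀ (y * x))
    (hnd : ∀ x : R, x ≠ 0 → ∃ y, τ₀ (x * y) ≠ 0)
    (R₀ : R) (hR₀ : ∀ r, τ₀ (R₀ * r) = Matrix.trace (S.π i r))
    {z : R} (hz : z ∈ W) (hz0 : z ≠ 0) :
    ∃ (w : R) (c : k), (∀ x, Commute w x) ∧ c ≠ 0 ∧ z * w = c • R₀ := by
  obtain ⟨ε, u, v, hεe0, hε, hue, hve, hvu, huv, htrε⟩ := S.exists_matrixUnits i he hc hi honly
  set C := LinearMap.range (LinearMap.mulLeftRight k (ε, ε)) with hC
  have hmemC : ∀ x, x ∈ C ↔ ε * x * ε = x := fun x => by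
    constructor
    · rintro ⟨y, rfl⟩
      simp only [LinearMap.mulLeftRight_apply, mul_assoc, hε.eq]
      rw [← mul_assoc ε ε, hε.eq]
    · exact fun h => ⟨x, by simp [LinearMap.mulLeftRight_apply, h]⟩
  -- the dimension of the corner
  let Ψ : (Fin (S.d i) → Fin (S.d i) → C) →ₗ[k] R :=
    ∑ a, ∑ b, LinearMap.mulLeftRight k (u a, v b) ∘ₗ C.subtype ∘ₗ LinearMap.proj b ∘ₗ LinearMap.proj a
  have hΨ : ∀ c, Ψ c = ∑ a, ∑ b, u a * (c a b).1 * v b := fun c => by
    simp [Ψ, LinearMap.mulLeftRight_apply]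
  have hΨr : LinearMap.range Ψ ≤ LinearMap.range (LinearMap.mulRight k e0) := by
    rintro _ ⟨c, rfl⟩
    refine ⟨Ψ c, ?_⟩
    rw [LinearMap.mulRight_apply, hΨ, Finset.sum_mul]
    refine Finset.sum_congr rfl fun a _ => ?_
    rw [Finset.sum_mul]
    refine Finset.sum_congr rfl fun b _ => ?_
    conv_lhs => rw [mul_assoc, ← hve b, mul_assoc ε, ← (hc (v b)).eq, ← mul_assoc ε e0, hεe0, hve b]
  have hΨi : Function.Injective Ψ := by
    rw [injective_iff_map_eq_zero]
    intro c h0
    funext a b
    refine Subtype.ext ?_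
    have h := congrArg (fun x => v a * x * u b) h0
    simp only [hΨ, Finset.mul_sum, Finset.sum_mul, mul_zero, zero_mul] at h
    rw [Finset.sum_eq_single a, Finset.sum_eq_single b] at h
    · rw [show v a * (u a * (c a b).1 * v b) * u b = (v a * u a) * (c a b).1 * (v b * u b) by
        simp only [mul_assoc], hvu, hvu, if_pos rfl, if_pos rfl, (hmemC _).1 (c a b).2] at h
      simpa using h
    · intro b' _ hb'
      rw [show v a * (u a * (c a b').1 * v b') * u b = v a * u a * (c a b').1 * (v b' * u b) by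
        simp only [mul_assoc], hvu b' b, if_neg hb', mul_zero]
    · exact fun h' => absurd (Finset.mem_univ _) h'
    · intro a' _ ha'
      refine Finset.sum_eq_zero fun b' _ => ?_
      rw [show v a * (u a' * (c a' b').1 * v b') * u b = v a * u a' * ((c a' b').1 * (v b' * u b)) by
        simp only [mul_assoc], hvu a a', if_neg (Ne.symm ha'), zero_mul]
    · exact fun h' => absurd (Finset.mem_univ _) h'
  have hCm : finrank k C ≤ m := by
    have h := (LinearMap.finrank_range_of_inj hΨi).symm.trans_le (Submodule.finrank_mono hΨr)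
    rw [Module.finrank_pi_fintype] at h
    simp only [Module.finrank_pi_fintype, Finset.sum_const, Finset.card_univ, Fintype.card_fin,
      smul_eq_mul] at h
    refine Nat.le_of_mul_le_mul_left ?_ (pow_pos (S.pos i) 2)
    calc S.d i ^ 2 * finrank k C = S.d i * (S.d i * finrank k C) := by ring
      _ ≤ _ := h.trans hdim
      _ = _ := mul_comm _ _
  -- every corner element comes from the centre
  let ι : W →ₗ[k] C := LinearMap.codRestrict C (LinearMap.mulRight k ε ∘ₗ W.subtype) fun y => by
    rw [hmemC]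
    show ε * (y.1 * ε) * ε = y.1 * ε
    rw [← mul_assoc ε, ← ((hW y.1 y.2).1 ε).eq, mul_assoc y.1, hε.eq, mul_assoc, hε.eq]
  have hrec : ∀ y, (∀ x, Commute y x) → y * e0 = y → ∑ a, u a * (y * ε) * v a = y := by
    intro y hy hye
    conv_rhs => rw [← hye, ← huv, Finset.mul_sum]
    refine Finset.sum_congr rfl fun a _ => ?_
    rw [mul_assoc, mul_assoc y, hve, ← mul_assoc, ← (hy (u a)).eq, mul_assoc]
  have hιi : Function.Injective ι := by
    rw [injective_iff_map_eq_zero]
    intro y h0
    refine Subtype.ext ?_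
    rw [← hrec y.1 (hW y.1 y.2).1 (hW y.1 y.2).2,
      Finset.sum_eq_zero fun a _ => by rw [show y.1 * ε = 0 from congrArg Subtype.val h0]; simp]
    rfl
  have hιs : Function.Surjective ι := by
    rw [← LinearMap.range_eq_top]
    refine Submodule.eq_top_of_finrank_eq ?_
    have h1 := LinearMap.finrank_range_of_inj hιi
    have h2 := Submodule.finrank_le (LinearMap.range ι)
    omega
  -- descend along the radical
  obtain ⟨L, hL⟩ := exists_radPow_eq_bot k R
  set Q : R → Prop := fun y => (∀ x, Commute y x) ∧ y * e0 = y ∧ y ∈ Ring.jacobson R with hQ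
  have hdesc : ∀ j x, (∀ r, Commute x r) → x * e0 = x → x ≠ 0 → (∃ t, j + t = L + 1) →
      x ∈ radPow k R j →
      ∃ w : R, (∀ r, Commute w r) ∧ x * w ≠ 0 ∧ ∀ y, Q y → x * w * y = 0 := by
    intro j x hxc hxe hx0 ht
    obtain ⟨t, ht⟩ := ht
    induction t generalizing j x with
    | zero =>
      intro hxr
      exfalso
      apply hx0
      have h2 : x ∈ radPow k R L := by
        rw [mem_radPow] at hxr ⊢
        rw [show j = L + 1 by omega, Submodule.pow_succ] at hxr
        exact Ideal.mul_le_left hxr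
      rwa [hL, Submodule.mem_bot] at h2
    | succ t ih =>
      intro hxr
      by_cases hall : ∀ y, Q y → x * y = 0
      · exact ⟨1, fun r => Commute.one_left r, by rwa [mul_one], fun y hy => by
          rw [mul_one]; exact hall y hy⟩
      push Not at hall
      obtain ⟨y, ⟨hyc, hye, hyJ⟩, hxy⟩ := hall
      obtain ⟨w, hwc, hw0, hwQ⟩ := ih (j + 1) (x * y) (fun r => (hxc r).mul_left (hyc r))
        (by rw [mul_assoc, hye]) hxy (by omega)
        (by
          rw [mem_radPow, Submodule.pow_succ]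
          exact Ideal.mul_mem_mul (mem_radPow.1 hxr) hyJ)
      exact ⟨y * w, fun r => (hyc r).mul_left (hwc r), by rwa [← mul_assoc], fun y' hy' => by
        rw [← mul_assoc]; exact hwQ y' hy'⟩
  obtain ⟨w, hwc, hw0, hwQ⟩ := hdesc 0 z (hW z hz).1 (hW z hz).2 hz0 ⟨L + 1, zero_add _⟩
    (by rw [mem_radPow, Submodule.pow_zero, Ideal.one_eq_top]; exact Submodule.mem_top)
  set x := z * w with hx
  have hxc : ∀ r, Commute x r := fun r => ((hW z hz).1 r).mul_left (hwc r)
  have hxe : x * e0 = x := by rw [hx, mul_assoc, (hwc e0).eq, ← mul_assoc, (hW z hz).2]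
  have hkey : ∀ r, τ₀ (x * r) = τ₀ (x * ε) * Matrix.trace (S.π i r) := by
    intro r
    have hterm : ∀ a, τ₀ (x * (v a * r * u a)) =
        τ₀ (x * ε) * Matrix.trace (S.π i (v a * r * u a)) := by
      intro a
      have hCa : v a * r * u a ∈ C := by
        rw [hmemC, ← mul_assoc, ← mul_assoc, hve, mul_assoc, hue]
      obtain ⟨y, hy⟩ := hιs ⟨_, hCa⟩
      have hy' : y.1 * ε = v a * r * u a := congrArg Subtype.val hy
      obtain ⟨hyc, hye⟩ := hW y.1 y.2
      obtain ⟨c, hc'⟩ := S.exists_scalar i hyc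
      have hQy : Q (y.1 - c • e0) := by
        refine ⟨fun r => (hyc r).sub_left ((hc r).smul_left c), ?_, S.ker _ fun j => ?_⟩
        · rw [sub_mul, hye, smul_mul_assoc, he.eq]
        · rw [map_sub, map_smul]
          by_cases hj : j = i
          · subst hj; rw [hc', hi, sub_self]
          · rw [← hye, map_mul, honly j hj, mul_zero, smul_zero, sub_zero]
      have hxy : x * y.1 = c • x := by
        have h := hwQ _ hQy
        rw [mul_sub, sub_eq_zero, mul_smul_comm, hxe] at h
        exact h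
      rw [← hy', ← mul_assoc, hxy, smul_mul_assoc, map_smul, map_mul (S.π i), hc', smul_mul_assoc, one_mul,
        Matrix.trace_smul, htrε]
      simp [mul_comm]
    calc τ₀ (x * r) = ∑ a, τ₀ (x * (v a * r * u a)) := by
          conv_lhs => rw [← hxe, ← huv, Finset.mul_sum, Finset.sum_mul, map_sum]
          refine Finset.sum_congr rfl fun a _ => ?_
          rw [show x * (u a * v a) * r = x * u a * (v a * r) by simp only [mul_assoc], (hxc (u a)).eq,
            mul_assoc, htr, mul_assoc]
      _ = ∑ a, τ₀ (x * ε) * Matrix.trace (S.π i (v a * r * u a)) :=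
          Finset.sum_congr rfl fun a _ => hterm a
      _ = τ₀ (x * ε) * Matrix.trace (S.π i r) := by
          rw [← Finset.mul_sum]
          congr 1
          conv_rhs => rw [← one_mul (S.π i r), ← hi, ← huv, map_sum, Finset.sum_mul, Matrix.trace_sum]
          refine Finset.sum_congr rfl fun a _ => ?_
          rw [map_mul, map_mul, map_mul, Matrix.trace_mul_comm, Matrix.mul_assoc]
  have hxR : x = τ₀ (x * ε) • R₀ := by
    by_contra hne
    obtain ⟨r, hr⟩ := hnd _ (sub_ne_zero.2 hne)
    rw [sub_mul, map_sub, smul_mul_assoc, map_smul, hR₀, smul_eq_mul, hkey, sub_self] at hr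
    exact hr rfl
  exact ⟨w, _, hwc, fun h0 => hw0 (by rw [hxR, h0, zero_smul]), hxR⟩

end Cfsg.Agent.BrauerChar.Simples
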