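import Cfsg.Agent.Lib.BrauerChar.OneSimple
import Cfsg.Agent.Lib.BrauerChar.Corner
import Cfsg.Agent.Lib.BrauerChar.Centre
import Cfsg.Agent.Lib.Blocks.NilpotentRank.TraceElt

/-!
# A block with abelian defect group and equal degrees has trivial inertial quotient

The centre of such a block has dimension at least `|P|` and embeds by `z ↦ Br_P(z) e` into the span
of the elements `u e`, `u ∈ P`; the image is invariant under the stabilizer of `e`.
-/

set_option autoImplicit false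
set_option linter.unusedSectionVars false
set_option linter.style.haveILetI false
set_option synthInstance.maxHeartbeats 200000
set_option maxHeartbeats 400000

namespace Cfsg.Agent.BrauerChar

open Cfsg Cfsg.Agent.Blocks MonoidAlgebra
open Cfsg.Agent.BrauerPairs (blkG br IsMax IsPairOf PLE fixedBy conjEl centerIn suppIn stabOf isBlockIdem_blkG)
open Cfsg.Agent.Blocks.NilRank (redTr redTrL redTrL_comm redTrL_conj exists_max_trace)
open Cfsg.Agent.Blocks.TwoChars (lin_ext)
open scoped Classical Cfsg.Agent.Blocks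

universe u

variable {M : Ideal AlgInt} [M.IsMaximal] {p : ℕ} [hp : Fact p.Prime] [CharP (AlgInt ⧸ M) p]
variable {G : Type u} [Group G] [Fintype G] {B : Set (IrrCharacter G)} {P : Subgroup G}

/-- The residual trace does not see the complement of the centralizer of a `p`-group. -/
theorem redTrL_br {χ : G → ℂ} (hχ : IsClassFunction G χ) (hP : IsPGroup p P)
    {x : MonoidAlgebra (AlgInt ⧸ M) G} (hx : x ∈ fixedBy (AlgInt ⧸ M) P) :
    redTrL M χ (br P x) = redTrL M χ x := by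
  show ∑ g, (br P x).coeff g * red M (χ g) = ∑ g, x.coeff g * red M (χ g)
  let P' : Subgroup (ConjAct G) := P.map (ConjAct.toConjAct : G ≃* ConjAct G).toMonoidHom
  have hP' : IsPGroup p P' := hP.map _
  rw [BrauerPairs.sum_eq_sum_fixed hP' (fun g => x.coeff g * red M (χ g))]
  · refine Finset.sum_congr rfl fun g _ => ?_
    have hfix : g ∈ MulAction.fixedPoints P' G ↔ g ∈ Subgroup.centralizer (P : Set G) := by
      rw [MulAction.mem_fixedPoints, Subgroup.mem_centralizer_iff]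
      constructor
      · intro h u hu
        have h1 := h ⟨ConjAct.toConjAct u, Subgroup.mem_map_of_mem _ hu⟩
        simp only [Subgroup.smul_def, ConjAct.toConjAct_smul] at h1
        exact mul_inv_eq_iff_eq_mul.1 h1
      · rintro h ⟨w, hw⟩
        obtain ⟨u, hu, rfl⟩ := Subgroup.mem_map.1 hw
        simp only [Subgroup.smul_def, MulEquiv.coe_toMonoidHom, ConjAct.toConjAct_smul]
        exact mul_inv_eq_iff_eq_mul.2 (h u hu)
    simp only [BrauerPairs.coeff_br, hfix]
    split_ifs <;> simp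
  · rintro ⟨w, hw⟩ g
    obtain ⟨u, hu, rfl⟩ := Subgroup.mem_map.1 hw
    simp only [Subgroup.smul_def, MulEquiv.coe_toMonoidHom, ConjAct.toConjAct_smul]
    rw [BrauerPairs.mem_fixedBy_iff_coeff.1 hx u hu g, hχ g u]

/-- A maximal pair on `P` with an element of nonzero trace supported at it. -/
theorem exists_max_trace_br (hpM : (p : AlgInt) ∈ M) (hB : IsPBlock M B)
    (hP : IsDefectGroup p M B P) {χ₀ : IrrCharacter G} (hχ₀ : χ₀ ∈ B)
    (hh : blockHeight p B χ₀.1 = 0) :
    ∃ (e y : MonoidAlgebra (AlgInt ⧸ M) G), IsMax p (blkG M B) (P, e) ∧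
      (∀ g, g ∉ Subgroup.centralizer (P : Set G) → y.coeff g = 0) ∧ y * e = y ∧
      redTrL M χ₀.1 y ≠ 0 := by
  have hblk : ∀ H : Subgroup G, BrauerPairs.HasBlocks (AlgInt ⧸ M) H := fun H =>
    BrauerPairs.hasBlocks M H
  have hBi := isBlockIdem_blkG hB
  have hcl := irr_classFun χ₀
  have hchi : IsCharacter G χ₀.1 := Char.irr_isCharacter χ₀
  obtain ⟨e₀, a, hmax₀, haS, hafix, hatr, -⟩ := exists_max_trace hpM hB hP hχ₀ hh
  have hA : redA M a ∈ fixedBy (AlgInt ⧸ M) P :=
    BrauerPairs.mem_fixedBy_iff_coeff.2 fun v hv g => by rw [coeff_redA, coeff_redA, hafix v hv]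
  have htA : redTrL M χ₀.1 (blkG M B * redA M a) ≠ 0 := by
    show redTr M χ₀.1 (redA M (blockIdem B) * redA M a) ≠ 0
    rwa [← redA_mul (scoeff_blockIdem hB) haS,
      ← NilRank.red_chiL hchi ((scoeff_blockIdem hB).mul haS), chiL_blockIdem_mul, if_pos hχ₀]
  obtain ⟨x, e, hx, htx, hpair, hloc⟩ := BrauerPairs.exists_local_elt hblk
    (Blocks.exists_pow_eq hpM) hBi (redTrL M χ₀.1) (redTrL_comm hcl) (redTrL_conj hcl)
    hmax₀.1.1.1 hA htA
  have hmax : IsMax p (blkG M B) (P, e) := by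
    obtain ⟨⟨Q, f'⟩, hle, hQ⟩ := BrauerPairs.exists_max_above hBi hpair
    have hPQ : P = Q := Subgroup.eq_of_le_of_card_ge hle.le
      (by rw [card_defectGroup hpM hB hP, card_defectGroup hpM hB
        (BrauerPairs.isDefectGroup_of_isMax hB hQ)])
    subst hPQ
    rw [BrauerPairs.PLE.eq_of_fst_eq hle rfl]
    exact hQ
  refine ⟨e, br P x, hmax, fun g hg => BrauerPairs.coeff_br_of_notMem x hg,
    hloc P le_rfl e Relation.ReflTransGen.refl, ?_⟩
  rwa [redTrL_br hcl hmax.1.1.1 hx]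

/-- With abelian defect group and equal degrees every element of the inertial group centralizes
the defect group. -/
theorem exists_trivial_inertia_of_equal_degrees (hM : IsPModular p M) (hB : IsPBlock M B)
    (hP : IsDefectGroup p M B P) (hcomm : P ≤ Subgroup.centralizer (P : Set G))
    (h0 : ∀ χ ∈ B, blockHeight p B χ.1 = 0) {f : ℕ} (hf : ∀ χ ∈ B, Char.degree χ = f) :
    ∃ e, IsMax p (blkG M B) (P, e) ∧
      ∀ g ∈ stabOf P e, g ∈ Subgroup.centralizer (P : Set G) := by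
  have hpM := hM.2.2
  haveI := isAlgClosed_residue (M := M)
  haveI : FiniteDimensional (AlgInt ⧸ M) (MonoidAlgebra (AlgInt ⧸ M) G) := TwoChars.moduleFinite
  obtain ⟨S⟩ := nonempty_simples (k := AlgInt ⧸ M) (R := MonoidAlgebra (AlgInt ⧸ M) G)
  obtain ⟨i, hi⟩ := OneSimple.of_equal_degrees (S := S) hpM hB hf
  obtain ⟨χ₀, hχ₀⟩ := block_nonempty hB
  obtain ⟨e, y, hmax, hysupp, hye, hty⟩ := exists_max_trace_br hpM hB hP hχ₀ (h0 χ₀ hχ₀)
  refine ⟨e, hmax, ?_⟩
  obtain ⟨hind, hspan⟩ := exists_eq_sum_single_mul hM hB hmax hcomm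
  have hPp : IsPGroup p P := hmax.1.1.1
  have he := hmax.1.1.2
  set C := Subgroup.centralizer (P : Set G)
  set T := redTrL M χ₀.1 with hT
  -- the dual of the trace
  set R₀ : MonoidAlgebra (AlgInt ⧸ M) G := ofFun fun g => red M (χ₀.1 g⁻¹) with hR₀
  have hR₀c : IsCentralElt R₀ := isCentralElt_ofFun fun g h => by
    rw [show (h * g * h⁻¹)⁻¹ = h * g⁻¹ * h⁻¹ by group, irr_classFun χ₀ g⁻¹ h]
  have hTs : ∀ g, T (single g 1) = red M (χ₀.1 g) := fun g => by
    show redTr M χ₀.1 (single g 1) = _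
    simp [redTr, MonoidAlgebra.coeff_single, Finsupp.single_apply]
  have hτR : ∀ r, tau (AlgInt ⧸ M) G (R₀ * r) = T r := by
    intro r
    refine LinearMap.congr_fun (lin_ext (τ := tau (AlgInt ⧸ M) G ∘ₗ LinearMap.mulLeft (AlgInt ⧸ M) R₀)
      (τ' := T) fun g => ?_) r
    show tau (AlgInt ⧸ M) G (R₀ * single g 1) = _
    rw [tau_mul_single, hR₀, coeff_ofFun, inv_inv, hTs]
  have hR₀tr : ∀ r, tau (AlgInt ⧸ M) G (R₀ * r) = Matrix.trace (S.π i r) := by
    intro r
    rw [hτR]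
    refine LinearMap.congr_fun (lin_ext (τ := T)
      (τ' := Matrix.traceLinearMap (Fin (S.d i)) (AlgInt ⧸ M) (AlgInt ⧸ M) ∘ₗ (S.π i).toLinearMap)
      fun g => ?_) r
    rw [hTs, hi.red_apply hpM hχ₀]
    rfl
  have hbrC : ∀ z, IsCentralElt z → br P z ∈ centerIn (AlgInt ⧸ M) C := fun z hz =>
    ⟨fun x hx => BrauerPairs.coeff_br_of_notMem z hx,
      BrauerPairs.br_mem_fixedBy (H := ⊤) (BrauerPairs.mem_fixedBy_iff_coeff.2 fun h _ x => hz x h)
        le_top (Subgroup.centralizer_le_normalizer _)⟩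
  have hfixP : ∀ z : MonoidAlgebra (AlgInt ⧸ M) G, IsCentralElt z →
      z ∈ fixedBy (AlgInt ⧸ M) P := fun z hz =>
    BrauerPairs.mem_fixedBy_iff_coeff.2 fun h _ x => hz x h
  -- the map is injective on the centre
  have hbr0 : br P R₀ * e ≠ 0 := by
    intro h
    refine hty ?_
    rw [← hτR]
    have h1 : tau (AlgInt ⧸ M) G (R₀ * y) = tau (AlgInt ⧸ M) G (br P R₀ * y) := by
      rw [tau_apply, tau_apply, coeff_mul_eq_sum, coeff_mul_eq_sum]
      refine Finset.sum_congr rfl fun x _ => ?_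
      by_cases hx : x ∈ C
      · rw [BrauerPairs.coeff_br_of_mem _ hx]
      · rw [hysupp (x⁻¹ * 1) (by rwa [mul_one, inv_mem_iff]), mul_zero, mul_zero]
    rw [h1]
    conv_lhs => rw [← hye, ← mul_assoc, tau_comm, ← mul_assoc,
      BrauerPairs.centerIn_commute he.mem.1 (hbrC R₀ hR₀c).2, h, zero_mul, map_zero]
  have hinj : ∀ z ∈ centreBlk M B, br P z * e = 0 → z = 0 := by
    intro z hz hze
    by_contra hz0
    obtain ⟨w, c, hw, hc, hzw⟩ := S.exists_mul_eq_smul i (e0 := blkG M B)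
      (idem_blockIdem_redA hB) (commute_blockIdem_redA hB) hi.inBlock hi.only
      (m := Nat.card B) (hi.finrank_range_mulRight_le hB) (centreBlk M B)
      (fun z hz => ⟨fun x => hz.1.commute x, hz.2⟩) (finrank_centreBlk hpM hB).ge
      (tau (AlgInt ⧸ M) G) tau_comm (fun x hx => exists_tau_ne_zero hx) R₀ hR₀tr hz hz0
    have hwc : IsCentralElt w := isCentralElt_iff_commute.2 fun a => hw _
    refine hbr0 ?_
    have h1 : br P (z * w) * e = 0 := by
      rw [(hw z).symm.eq, BrauerPairs.br_mul hPp (hfixP w hwc) (hfixP z hz.1), mul_assoc, hze,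
        mul_zero]
    rw [hzw, map_smul, smul_mul_assoc, smul_eq_zero] at h1
    exact h1.resolve_left hc
  -- the stabilizer fixes the image
  intro g hg
  refine Subgroup.mem_centralizer_iff.2 fun u₀ hu₀ => ?_
  by_contra hne
  let σ : P ≃ P :=
    { toFun := fun u => ⟨g * u * g⁻¹, (Subgroup.mem_normalizer_iff.1 hg.1 u).1 u.2⟩
      invFun := fun u => ⟨g⁻¹ * u * g, (Subgroup.mem_normalizer_iff''.1 hg.1 u).1 u.2⟩
      left_inv := fun u => Subtype.ext (by simp [mul_assoc])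
      right_inv := fun u => Subtype.ext (by simp [mul_assoc]) }
  let L : (P → AlgInt ⧸ M) →ₗ[AlgInt ⧸ M] AlgInt ⧸ M :=
    LinearMap.proj (σ ⟨u₀, hu₀⟩) - LinearMap.proj ⟨u₀, hu₀⟩
  let Φ : (P → AlgInt ⧸ M) →ₗ[AlgInt ⧸ M] MonoidAlgebra (AlgInt ⧸ M) G :=
    ∑ u : P, (LinearMap.proj u).smulRight (single (u : G) (1 : AlgInt ⧸ M) * e)
  have hΦ : ∀ f, Φ f = ∑ u : P, f u • (single (u : G) 1 * e) := fun f => by simp [Φ]
  let Ψ : centreBlk M B →ₗ[AlgInt ⧸ M] MonoidAlgebra (AlgInt ⧸ M) G :=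
    LinearMap.mulRight (AlgInt ⧸ M) e ∘ₗ (br P) ∘ₗ (centreBlk M B).subtype
  have hΨ : Function.Injective Ψ := (injective_iff_map_eq_zero Ψ).2 fun z hz =>
    Subtype.ext (hinj z.1 z.2 hz)
  have hrange : LinearMap.range Ψ ≤ (LinearMap.ker L).map Φ := by
    rintro _ ⟨z, rfl⟩
    set x := br P z.1 * e with hx
    have hxC : x ∈ centerIn (AlgInt ⧸ M) C := mul_mem (hbrC _ z.2.1) he.mem
    obtain ⟨f, hf'⟩ := hspan x hxC (by rw [hx, mul_assoc, he.idem])
    refine ⟨f, ?_, (hΦ f).trans hf'.symm⟩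
    have hgx : conjEl g x = x := by
      rw [hx, map_mul, hg.2, BrauerPairs.conjEl_br,
        BrauerPairs.map_conj_eq_of_mem_normalizer hg.1,
        BrauerPairs.mem_fixedBy.1 (BrauerPairs.mem_fixedBy_iff_coeff.2 fun h _ y => z.2.1 y h :
          z.1 ∈ fixedBy (AlgInt ⧸ M) (⊤ : Subgroup G)) g (Subgroup.mem_top g)]
    have h1 : ∑ u : P, (f (σ.symm u) - f u) • (single (u : G) 1 * e) = 0 := by
      simp only [sub_smul, Finset.sum_sub_distrib]
      rw [sub_eq_zero]
      conv_rhs => rw [← hf', ← hgx, hf', map_sum]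
      refine (Fintype.sum_equiv σ _ _ fun u => ?_).symm
      rw [map_smul, map_mul, hg.2, σ.symm_apply_apply]
      congr 2
      simp [conjEl, σ]
    have h2 := congrFun (hind _ h1) (σ ⟨u₀, hu₀⟩)
    simp only [σ.symm_apply_apply, Pi.zero_apply, sub_eq_zero] at h2
    show L f = 0
    show f _ - f _ = 0
    rw [h2, sub_self]
  have hlt : Module.finrank (AlgInt ⧸ M) (LinearMap.ker L) < Nat.card P := by
    refine lt_of_lt_of_eq (Submodule.finrank_lt fun h => ?_)
      (by rw [Module.finrank_fintype_fun_eq_card, Nat.card_eq_fintype_card])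
    have h1 : Pi.single (⟨u₀, hu₀⟩ : P) (1 : AlgInt ⧸ M) ∈ LinearMap.ker L := h ▸ Submodule.mem_top
    have hσ : σ ⟨u₀, hu₀⟩ ≠ ⟨u₀, hu₀⟩ := fun h => hne (by
      have h' := congrArg Subtype.val h
      exact (mul_inv_eq_iff_eq_mul.1 h').symm)
    rw [LinearMap.mem_ker] at h1
    simp [L, Pi.single_eq_of_ne hσ] at h1
  have hqk : Nat.card P ≤ Nat.card B := by
    rw [card_defectGroup hpM hB hP]
    haveI : Nonempty B := ⟨⟨χ₀, hχ₀⟩⟩
    exact Nat.le_of_dvd Nat.card_pos (hi.pow_dvd_card hB)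
  haveI : Module.Finite (AlgInt ⧸ M) (MonoidAlgebra (AlgInt ⧸ M) G) := TwoChars.moduleFinite
  have hBk : Nat.card B ≤ Module.finrank (AlgInt ⧸ M) (LinearMap.ker L) := by
    rw [← finrank_centreBlk hpM hB, ← LinearMap.finrank_range_of_inj hΨ]
    exact (Submodule.finrank_mono hrange).trans (Submodule.finrank_map_le _ _)
  omega

end Cfsg.Agent.BrauerChar
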