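import Cfsg.Agent.Lib.BrauerChar.Simples
import Cfsg.Agent.Lib.Blocks.ModReduction
import Cfsg.Agent.Lib.Modular.SimpleCount
import Mathlib.RingTheory.RootsOfUnity.Complex

/-!
# Brauer characters of matrix representations in characteristic `p`

* `brauer M ρ`: the eigenvalue multiplicities at a regular element `s` are the ranks of the
  idempotents `eigIdem s ζ`; extended to `G` through the regular part.
* `rank_of_lift`, `brauer_of_lift`: representations with a lift.
* `sum_rank_eq_zero`: an integral relation between Brauer characters is one between the ranks of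
  every idempotent.
-/

set_option autoImplicit false
set_option linter.unusedSectionVars false
set_option linter.style.haveILetI false
set_option synthInstance.maxHeartbeats 200000

namespace Cfsg.Agent.BrauerChar

open Cfsg Cfsg.Agent.Blocks MonoidAlgebra
open Cfsg.Agent.Modular (regPart isPRegular_regPart regPart_conj regPart_of_regular)
open scoped Classical ComplexConjugate Cfsg.Agent.Blocks

universe u

variable {G : Type u} [Group G] [Fintype G]

/-- The idempotent of `ℂ⟨s⟩` belonging to the eigenvalue `ζ`. -/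
noncomputable def eigIdem (s : G) (ζ : ℂ) : MonoidAlgebra ℂ G :=
  (orderOf s : ℂ)⁻¹ • ∑ t ∈ Finset.range (orderOf s), single (s ^ t) (conj ζ ^ t)

section Idem

variable {s : G} {ζ : ℂ}

theorem orderOf_cast_ne_zero (s : G) : (orderOf s : ℂ) ≠ 0 :=
  Nat.cast_ne_zero.2 (orderOf_pos s).ne'

theorem mul_conj_root {N : ℕ} (hN : N ≠ 0) (h : ζ ^ N = 1) : ζ * conj ζ = 1 := by
  rw [Complex.mul_conj', Complex.norm_eq_one_of_pow_eq_one h hN]
  norm_num

theorem single_mul_eigSum (hζ : ζ ^ orderOf s = 1) :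
    single s (conj ζ) * ∑ t ∈ Finset.range (orderOf s), single (s ^ t) (conj ζ ^ t) =
      ∑ t ∈ Finset.range (orderOf s), single (s ^ t) (conj ζ ^ t) := by
  set f : ℕ → MonoidAlgebra ℂ G := fun t => single (s ^ t) (conj ζ ^ t) with hf
  show single s (conj ζ) * ∑ t ∈ Finset.range (orderOf s), f t = ∑ t ∈ Finset.range (orderOf s), f t
  rw [Finset.mul_sum, Finset.sum_congr rfl fun t _ => show single s (conj ζ) * f t = f (t + 1) by
    simp only [hf, single_mul_single, pow_succ']]
  have h0 : f (orderOf s) = f 0 := by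
    simp only [hf, pow_orderOf_eq_one, ← map_pow, hζ, pow_zero, map_one]
  have h1 := Finset.sum_range_succ' f (orderOf s)
  rw [Finset.sum_range_succ, h0] at h1
  exact (add_right_cancel h1).symm

theorem single_mul_eigIdem (hζ : ζ ^ orderOf s = 1) :
    single s 1 * eigIdem s ζ = ζ • eigIdem s ζ := by
  have h : single s (1 : ℂ) = ζ • single s (conj ζ) := by
    rw [smul_single, smul_eq_mul, mul_conj_root (orderOf_pos s).ne' hζ]
  rw [eigIdem, h, mul_smul_comm, smul_mul_assoc, single_mul_eigSum hζ, smul_comm]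

theorem eigIdem_isIdempotentElem (hζ : ζ ^ orderOf s = 1) : IsIdempotentElem (eigIdem s ζ) := by
  set S := ∑ t ∈ Finset.range (orderOf s), single (s ^ t) (conj ζ ^ t) with hS
  have hpow : ∀ t, single (s ^ t) (conj ζ ^ t) * S = S := by
    intro t
    induction t with
    | zero => rw [pow_zero, pow_zero, ← MonoidAlgebra.one_def, one_mul]
    | succ t ih =>
      rw [pow_succ, pow_succ, ← single_mul_single, mul_assoc, hS, single_mul_eigSum hζ, ← hS, ih]
  have hSS : S * S = (orderOf s : ℂ) • S := by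
    conv_lhs => arg 1; rw [hS]
    rw [Finset.sum_mul, Finset.sum_congr rfl fun t _ => hpow t, Finset.sum_const, Finset.card_range,
      ← Nat.cast_smul_eq_nsmul ℂ]
  show eigIdem s ζ * eigIdem s ζ = eigIdem s ζ
  rw [eigIdem, smul_mul_smul_comm, hSS, smul_smul, mul_assoc,
    inv_mul_cancel₀ (orderOf_cast_ne_zero s), mul_one]

theorem sum_eigIdem (s : G) :
    ∑ ζ ∈ Polynomial.nthRootsFinset (orderOf s) (1 : ℂ), eigIdem s ζ = 1 := by
  have hN : 0 < orderOf s := orderOf_pos s
  obtain ⟨ω, hω⟩ : ∃ ω : ℂ, IsPrimitiveRoot ω (orderOf s) :=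
    ⟨_, Complex.isPrimitiveRoot_exp (orderOf s) hN.ne'⟩
  have hroots : Polynomial.nthRootsFinset (orderOf s) (1 : ℂ) =
      (Finset.range (orderOf s)).image (ω ^ ·) := by
    ext z
    rw [Polynomial.mem_nthRootsFinset hN, Finset.mem_image]
    constructor
    · intro hz
      haveI : NeZero (orderOf s) := ⟨hN.ne'⟩
      obtain ⟨i, hi, h⟩ := hω.eq_pow_of_pow_eq_one hz
      exact ⟨i, Finset.mem_range.2 hi, h⟩
    · rintro ⟨i, -, rfl⟩
      rw [← pow_mul, mul_comm, pow_mul, hω.pow_eq_one, one_pow]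
  simp only [eigIdem]
  rw [← Finset.smul_sum, Finset.sum_comm, hroots,
    Finset.sum_eq_single 0 (fun t ht ht0 => ?_) (fun h => absurd (Finset.mem_range.2 hN) h)]
  · simp only [pow_zero, ← MonoidAlgebra.one_def]
    rw [Finset.sum_const, Finset.card_image_of_injOn (fun i hi j hj h =>
        hω.pow_inj (Finset.mem_range.1 hi) (Finset.mem_range.1 hj) h), Finset.card_range,
      ← Nat.cast_smul_eq_nsmul ℂ, smul_smul, inv_mul_cancel₀ (orderOf_cast_ne_zero s), one_smul]
  · rw [Finset.sum_image (fun i hi j hj h =>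
      hω.pow_inj (Finset.mem_range.1 hi) (Finset.mem_range.1 hj) h)]
    have h1 : ∑ i ∈ Finset.range (orderOf s), conj (ω ^ i) ^ t = 0 := by
      have hne : conj ω ^ t ≠ 1 := fun h => by
        have h' := congrArg conj h
        rw [map_pow, Complex.conj_conj, map_one] at h'
        exact ht0 (Nat.eq_zero_of_dvd_of_lt ((hω.pow_eq_one_iff_dvd t).1 h') (Finset.mem_range.1 ht))
      rw [Finset.sum_congr rfl fun i _ => show conj (ω ^ i) ^ t = (conj ω ^ t) ^ i by
        rw [map_pow, ← pow_mul, ← pow_mul, mul_comm], geom_sum_eq hne, ← pow_mul, mul_comm, pow_mul,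
        ← map_pow, hω.pow_eq_one]
      simp
    refine MonoidAlgebra.ext (Finsupp.ext fun g => ?_)
    simp only [MonoidAlgebra.coeff_sum, Finsupp.coe_finset_sum, Finset.sum_apply,
      MonoidAlgebra.coeff_single, Finsupp.single_apply, MonoidAlgebra.coeff_zero, Finsupp.coe_zero,
      Pi.zero_apply]
    split_ifs
    · exact h1
    · exact Finset.sum_const_zero

theorem conj_eigIdem (a : G) :
    single a 1 * eigIdem s ζ * single a⁻¹ 1 = eigIdem (a * s * a⁻¹) ζ := by
  have ho : orderOf (a * s * a⁻¹) = orderOf s := by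
    rw [← MulAut.conj_apply, MulEquiv.orderOf_eq]
  rw [eigIdem, eigIdem, ho, mul_smul_comm, smul_mul_assoc, Finset.mul_sum, Finset.sum_mul]
  congr 1
  refine Finset.sum_congr rfl fun t _ => ?_
  rw [single_mul_single, single_mul_single, one_mul, mul_one, conj_pow]

end Idem

variable {M : Ideal AlgInt} [M.IsMaximal] {p : ℕ} [hp : Fact p.Prime]

theorem scoeff_eigIdem (hpM : (p : AlgInt) ∈ M) {s : G} (hs : IsPRegular p s) {ζ : ℂ}
    (hζ : ζ ^ orderOf s = 1) : SCoeff M (eigIdem s ζ) := by
  intro g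
  have hint : IsIntegral ℤ ζ := IsIntegral.of_pow (orderOf_pos s) (hζ ▸ isIntegral_one)
  simp only [eigIdem, MonoidAlgebra.coeff_smul, MonoidAlgebra.coeff_sum, Finsupp.coe_smul,
    Finsupp.coe_finset_sum, Pi.smul_apply, Finset.sum_apply, smul_eq_mul]
  refine MemLocalRing.mul (memLocalRing_inv_natCast hpM hs) (MemLocalRing.sum _ fun t _ => ?_)
  rw [MonoidAlgebra.coeff_single, Finsupp.single_apply]
  split_ifs
  · exact MemLocalRing.pow (memLocalRing_of_isIntegral
      (hint.map (Complex.conjAe.toAlgHom.restrictScalars ℤ))) t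
  · exact memLocalRing_zero

variable (p) in
/-- The Brauer character of a matrix representation, extended through the regular part. -/
noncomputable def brauer {n : ℕ}
    (ρ : MonoidAlgebra (AlgInt ⧸ M) G →ₐ[AlgInt ⧸ M] Matrix (Fin n) (Fin n) (AlgInt ⧸ M)) (g : G) :
    ℂ :=
  ∑ ζ ∈ Polynomial.nthRootsFinset (orderOf (regPart (p := p) g)) (1 : ℂ),
    ((ρ (redA M (eigIdem (regPart (p := p) g) ζ))).rank : ℂ) * ζ

variable [CharP (AlgInt ⧸ M) p]

theorem trace_eq_rank {k : Type*} [Field k] {n : ℕ} {P : Matrix (Fin n) (Fin n) k}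
    (hP : IsIdempotentElem P) : P.trace = (P.rank : k) := by
  obtain ⟨U, V, hUV, hVU⟩ := exists_factor hP
  conv_lhs => rw [hUV, Matrix.trace_mul_comm, hVU, Matrix.trace_one, Fintype.card_fin]

theorem idem_redA {Z : MonoidAlgebra ℂ G} (hZ : SCoeff M Z) (hi : IsIdempotentElem Z) :
    IsIdempotentElem (redA M Z) := by
  show redA M Z * redA M Z = redA M Z
  rw [← redA_mul hZ hZ, hi.eq]

theorem redA_eq_sum (Z : MonoidAlgebra ℂ G) :
    redA M Z = ∑ g, red M (Z.coeff g) • single g (1 : AlgInt ⧸ M) := by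
  conv_lhs => rw [eq_sum_single (redA M Z)]
  exact Finset.sum_congr rfl fun g _ => by rw [coeff_redA, smul_single, smul_eq_mul, mul_one]

section Reps

variable {n : ℕ}
  (ρ : MonoidAlgebra (AlgInt ⧸ M) G →ₐ[AlgInt ⧸ M] Matrix (Fin n) (Fin n) (AlgInt ⧸ M))

theorem rank_conj (a : G) (x : MonoidAlgebra (AlgInt ⧸ M) G) :
    (ρ (single a 1 * x * single a⁻¹ 1)).rank = (ρ x).rank := by
  refine le_antisymm ?_ ?_
  · rw [map_mul, map_mul]
    exact (Matrix.rank_mul_le_left _ _).trans (Matrix.rank_mul_le_right _ _)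
  · conv_lhs => rw [show x = single a⁻¹ 1 * (single a 1 * x * single a⁻¹ 1) * single a 1 by
      simp [← mul_assoc, single_mul_single, MonoidAlgebra.one_def]
      rw [mul_assoc, single_mul_single, inv_mul_cancel, mul_one, ← MonoidAlgebra.one_def, one_mul,
        mul_one]]
    rw [map_mul, map_mul]
    exact (Matrix.rank_mul_le_left _ _).trans (Matrix.rank_mul_le_right _ _)

theorem brauer_conj (hpM : (p : AlgInt) ∈ M) (a g : G) :
    brauer p ρ (a * g * a⁻¹) = brauer p ρ g := by
  have ho : orderOf (a * regPart (p := p) g * a⁻¹) = orderOf (regPart (p := p) g) := by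
    rw [← MulAut.conj_apply, MulEquiv.orderOf_eq]
  simp only [brauer, regPart_conj]
  rw [ho]
  refine Finset.sum_congr rfl fun ζ hζ => ?_
  have hS := scoeff_eigIdem hpM (isPRegular_regPart (p := p) g)
    ((Polynomial.mem_nthRootsFinset (orderOf_pos _) _).1 hζ)
  rw [← conj_eigIdem, redA_mul ((scoeff_single a memLocalRing_one).mul hS)
    (scoeff_single _ memLocalRing_one), redA_mul (scoeff_single a memLocalRing_one) hS, redA_single,
    redA_single, red_one, rank_conj]

theorem trace_regPart' (g : G) :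
    (ρ (single g 1)).trace = (ρ (single (regPart (p := p) g) 1)).trace := by
  have h := Modular.trace_regPart (p := p) (AlgInt ⧸ M) (Modular.matRep _ ρ) g
  simp only [Modular.matRep, MonoidHom.comp_apply] at h
  have hA : ∀ A : Matrix (Fin n) (Fin n) (AlgInt ⧸ M),
      LinearMap.trace (AlgInt ⧸ M) (Fin n → AlgInt ⧸ M) (Matrix.toLinAlgEquiv' A) = A.trace := fun A => by
    rw [LinearMap.trace_eq_matrix_trace (AlgInt ⧸ M) (Pi.basisFun (AlgInt ⧸ M) (Fin n))]
    congr 1
    ext i j
    simp [LinearMap.toMatrix_apply, Matrix.toLinAlgEquiv'_apply]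
  rw [← hA, ← hA]
  exact h

theorem red_brauer (hpM : (p : AlgInt) ∈ M) (g : G) :
    MemLocalRing M (brauer p ρ g) ∧ red M (brauer p ρ g) = (ρ (single g 1)).trace := by
  set s := regPart (p := p) g with hs
  have hreg : IsPRegular p s := isPRegular_regPart g
  have hroot : ∀ ζ ∈ Polynomial.nthRootsFinset (orderOf s) (1 : ℂ), ζ ^ orderOf s = 1 := fun ζ hζ =>
    (Polynomial.mem_nthRootsFinset (orderOf_pos s) _).1 hζ
  have hloc : ∀ ζ ∈ Polynomial.nthRootsFinset (orderOf s) (1 : ℂ), MemLocalRing M ζ := fun ζ hζ =>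
    memLocalRing_of_isIntegral (IsIntegral.of_pow (orderOf_pos s) (hroot ζ hζ ▸ isIntegral_one))
  have hterm : ∀ ζ ∈ Polynomial.nthRootsFinset (orderOf s) (1 : ℂ),
      MemLocalRing M (((ρ (redA M (eigIdem s ζ))).rank : ℂ) * ζ) := fun ζ hζ =>
    MemLocalRing.mul (memLocalRing_natCast _) (hloc ζ hζ)
  refine ⟨MemLocalRing.sum _ hterm, ?_⟩
  rw [trace_regPart' (p := p), ← hs, brauer, red_sum _ hterm]
  calc ∑ ζ ∈ Polynomial.nthRootsFinset (orderOf s) (1 : ℂ),
      red M (((ρ (redA M (eigIdem s ζ))).rank : ℂ) * ζ)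
      = ∑ ζ ∈ Polynomial.nthRootsFinset (orderOf s) (1 : ℂ),
          (ρ (redA M (single s 1 * eigIdem s ζ))).trace := by
        refine Finset.sum_congr rfl fun ζ hζ => ?_
        have hS := scoeff_eigIdem hpM hreg (hroot ζ hζ)
        rw [single_mul_eigIdem (hroot ζ hζ), red_mul (memLocalRing_natCast _) (hloc ζ hζ),
          red_natCast, show redA M (ζ • eigIdem s ζ) = red M ζ • redA M (eigIdem s ζ) from
            alg_ext fun x => by simp [red_mul (hloc ζ hζ) (hS x)],
          map_smul, Matrix.trace_smul,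
          trace_eq_rank ((idem_redA hS (eigIdem_isIdempotentElem (hroot ζ hζ))).map ρ), smul_eq_mul,
          mul_comm]
    _ = (ρ (single s 1)).trace := by
        rw [← Matrix.trace_sum, ← map_sum]
        congr 2
        rw [Finset.sum_congr rfl fun ζ hζ => redA_mul (scoeff_single s memLocalRing_one)
          (scoeff_eigIdem hpM hreg (hroot ζ hζ)), ← Finset.mul_sum, redA_single, red_one]
        conv_rhs => rw [← mul_one (single s (1 : AlgInt ⧸ M))]
        congr 1
        refine alg_ext fun x => ?_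
        simp only [MonoidAlgebra.coeff_sum, Finsupp.coe_finset_sum, Finset.sum_apply, coeff_redA]
        rw [← red_sum _ fun ζ hζ => scoeff_eigIdem hpM hreg (hroot ζ hζ) x,
          ← Finset.sum_apply, ← Finsupp.coe_finset_sum, ← MonoidAlgebra.coeff_sum, sum_eigIdem,
          MonoidAlgebra.one_def, MonoidAlgebra.one_def, MonoidAlgebra.coeff_single,
          MonoidAlgebra.coeff_single, Finsupp.single_apply, Finsupp.single_apply]
        split_ifs <;> simp

/-- The ranks of idempotents in a representation with a lift. -/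
theorem rank_of_lift (L : G →* Matrix (Fin n) (Fin n) ℂ)
    (hL : ∀ g i j, MemLocalRing M (L g i j))
    (hρ : ∀ g i j, ρ (single g 1) i j = red M (L g i j)) {Z : MonoidAlgebra ℂ G} (hZ : SCoeff M Z)
    (hi : IsIdempotentElem Z) :
    ((ρ (redA M Z)).rank : ℂ) = ∑ g, Z.coeff g * (L g).trace := by
  set E : Matrix (Fin n) (Fin n) ℂ := MonoidAlgebra.lift ℂ (Matrix (Fin n) (Fin n) ℂ) G L Z with hE
  have hEsum : E = ∑ g, Z.coeff g • L g := by
    rw [hE]
    conv_lhs => rw [eq_sum_single Z]
    rw [map_sum]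
    exact Finset.sum_congr rfl fun g _ => by rw [MonoidAlgebra.lift_single]
  have hent : ∀ i j, E i j = ∑ g, Z.coeff g * L g i j := fun i j => by
    rw [hEsum, Matrix.sum_apply]
    exact Finset.sum_congr rfl fun g _ => rfl
  have hEloc : ∀ i j, MemLocalRing M (E i j) := fun i j => by
    rw [hent]
    exact MemLocalRing.sum _ fun g _ => MemLocalRing.mul (hZ g) (hL g i j)
  let E' : Matrix (Fin n) (Fin n) (localInt M) := Matrix.of fun i j => ⟨E i j, hEloc i j⟩
  have hval : E'.map (localInt M).subtype = E := rfl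
  have hidem : IsIdempotentElem E' := by
    apply Matrix.map_injective (Subtype.val_injective (p := fun z => z ∈ localInt M))
    refine (Matrix.map_mul (f := (localInt M).subtype)).trans ?_
    rw [hval]
    exact (hi.map (MonoidAlgebra.lift ℂ (Matrix (Fin n) (Fin n) ℂ) G L)).eq
  have hred : E'.map (redHom M) = ρ (redA M Z) := by
    ext i j
    rw [redA_eq_sum, map_sum, Matrix.sum_apply]
    show red M (E i j) = _
    rw [hent, red_sum _ fun g _ => MemLocalRing.mul (hZ g) (hL g i j)]
    exact Finset.sum_congr rfl fun g _ => by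
      rw [red_mul (hZ g) (hL g i j), map_smul, Matrix.smul_apply, smul_eq_mul, hρ]
  rw [← hred, rank_map_redHom_of_isIdempotentElem hidem, hval,
    rank_eq_trace (hi.map (MonoidAlgebra.lift ℂ (Matrix (Fin n) (Fin n) ℂ) G L)), ← hE, hEsum,
    Matrix.trace_sum]
  exact Finset.sum_congr rfl fun g _ => by rw [Matrix.trace_smul, smul_eq_mul]

/-- The Brauer character of a representation with a lift. -/
theorem brauer_of_lift (hpM : (p : AlgInt) ∈ M) (L : G →* Matrix (Fin n) (Fin n) ℂ)
    (hL : ∀ g i j, MemLocalRing M (L g i j))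
    (hρ : ∀ g i j, ρ (single g 1) i j = red M (L g i j)) (g : G) :
    brauer p ρ g = (L (regPart (p := p) g)).trace := by
  set s := regPart (p := p) g
  set Φ := MonoidAlgebra.lift ℂ (Matrix (Fin n) (Fin n) ℂ) G L
  have hroot : ∀ ζ ∈ Polynomial.nthRootsFinset (orderOf s) (1 : ℂ), ζ ^ orderOf s = 1 := fun ζ hζ =>
    (Polynomial.mem_nthRootsFinset (orderOf_pos s) _).1 hζ
  have htr : ∀ Z : MonoidAlgebra ℂ G, (Φ Z).trace = ∑ g, Z.coeff g * (L g).trace := fun Z => by
    conv_lhs => rw [eq_sum_single Z]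
    rw [map_sum, Matrix.trace_sum]
    exact Finset.sum_congr rfl fun g _ => by
      rw [MonoidAlgebra.lift_single, Matrix.trace_smul, smul_eq_mul]
  calc brauer p ρ g
      = ∑ ζ ∈ Polynomial.nthRootsFinset (orderOf s) (1 : ℂ), (Φ (single s 1 * eigIdem s ζ)).trace := by
        refine Finset.sum_congr rfl fun ζ hζ => ?_
        rw [rank_of_lift ρ L hL hρ (scoeff_eigIdem hpM (isPRegular_regPart g) (hroot ζ hζ))
          (eigIdem_isIdempotentElem (hroot ζ hζ)), single_mul_eigIdem (hroot ζ hζ), map_smul,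
          Matrix.trace_smul, htr, smul_eq_mul, mul_comm]
    _ = _ := by
        rw [← Matrix.trace_sum, ← map_sum, ← Finset.mul_sum, sum_eigIdem, mul_one,
          MonoidAlgebra.lift_single, one_smul]

/-- The Brauer character through the simple quotients. -/
theorem brauer_eq_sum (S : Simples (AlgInt ⧸ M) (MonoidAlgebra (AlgInt ⧸ M) G))
    (hpM : (p : AlgInt) ∈ M) (g : G) :
    brauer p ρ g = ∑ i, (S.mult ρ i : ℂ) * brauer p (S.π i) g := by
  haveI : FiniteDimensional (AlgInt ⧸ M) (MonoidAlgebra (AlgInt ⧸ M) G) := moduleFinite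
  simp only [brauer, Finset.mul_sum]
  rw [Finset.sum_comm]
  refine Finset.sum_congr rfl fun ζ hζ => ?_
  have hζ' := (Polynomial.mem_nthRootsFinset (orderOf_pos _) _).1 hζ
  rw [S.rank_eq ρ (idem_redA (scoeff_eigIdem hpM (isPRegular_regPart g) hζ')
    (eigIdem_isIdempotentElem hζ'))]
  push_cast
  rw [Finset.sum_mul]
  exact Finset.sum_congr rfl fun i _ => by ring

end Reps

/-- The Brauer characters of the simple quotients are independent. -/
theorem eq_zero_of_sum_brauer (S : Simples (AlgInt ⧸ M) (MonoidAlgebra (AlgInt ⧸ M) G))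
    (hpM : (p : AlgInt) ∈ M) (c : Fin S.n → ℤ)
    (h : ∀ g : G, ∑ i, (c i : ℂ) * brauer p (S.π i) g = 0) : c = 0 := by
  suffices H : ∀ (b : ℕ) (c : Fin S.n → ℤ), (∑ i, (c i).natAbs) = b →
      (∀ g : G, ∑ i, (c i : ℂ) * brauer p (S.π i) g = 0) → c = 0 from H _ c rfl h
  intro b
  induction b using Nat.strong_induction_on with
  | _ b ih =>
  intro c hb h
  have hdvd : ∀ i, (p : ℤ) ∣ c i := by
    have htr : ∀ x : MonoidAlgebra (AlgInt ⧸ M) G,
        ∑ i, (c i : AlgInt ⧸ M) * (S.π i x).trace = 0 := by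
      intro x
      induction x using MonoidAlgebra.induction_on with
      | of g =>
        have h1 : red M (∑ i, (c i : ℂ) * brauer p (S.π i) g) = 0 := by rw [h g, red_zero]
        rw [red_sum _ fun i _ => MemLocalRing.mul (memLocalRing_intCast _) (red_brauer _ hpM g).1] at h1
        rw [← h1]
        refine Finset.sum_congr rfl fun i _ => ?_
        rw [red_mul (memLocalRing_intCast _) (red_brauer _ hpM g).1, red_intCast,
          (red_brauer _ hpM g).2]
        rfl
      | add a b ha hb =>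
        simp only [map_add, Matrix.trace_add, mul_add, Finset.sum_add_distrib, ha, hb, add_zero]
      | smul r a ha =>
        simp only [map_smul, Matrix.trace_smul, smul_eq_mul, mul_left_comm _ r, ← Finset.mul_sum, ha,
          mul_zero]
    intro i
    obtain ⟨x, hx⟩ := S.surj (Pi.single i (Matrix.single ⟨0, S.pos i⟩ ⟨0, S.pos i⟩ 1))
    have h1 := htr x
    rw [Finset.sum_eq_single i (fun j _ hj => by simp [hx, Pi.single_eq_of_ne hj])
      (fun hni => absurd (Finset.mem_univ i) hni), hx, Pi.single_eq_same,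
      Matrix.trace_single_eq_same, mul_one] at h1
    exact (CharP.intCast_eq_zero_iff (AlgInt ⧸ M) p _).1 h1
  choose c' hc' using hdvd
  by_contra hne
  have hc'0 : ∀ g : G, ∑ i, (c' i : ℂ) * brauer p (S.π i) g = 0 := fun g => by
    have h1 := h g
    rw [Finset.sum_congr rfl fun i _ => show (c i : ℂ) * brauer p (S.π i) g =
      (p : ℂ) * ((c' i : ℂ) * brauer p (S.π i) g) by rw [hc' i]; push_cast; ring,
      ← Finset.mul_sum] at h1
    exact (mul_eq_zero.1 h1).resolve_left (Nat.cast_ne_zero.2 hp.out.ne_zero)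
  have hsum : b = p * ∑ i, (c' i).natAbs := by
    rw [← hb, Finset.mul_sum]
    exact Finset.sum_congr rfl fun i _ => by rw [hc' i, Int.natAbs_mul, Int.natAbs_natCast]
  refine hne (funext fun i => ?_)
  by_cases hb0 : (∑ i, (c' i).natAbs) = 0
  · have h2 := (Finset.sum_eq_zero_iff.1 hb0) i (Finset.mem_univ i)
    rw [hc' i, Int.natAbs_eq_zero.1 h2, mul_zero]
    rfl
  · have hlt : (∑ i, (c' i).natAbs) < b := by
      rw [hsum]
      exact lt_mul_left (Nat.pos_of_ne_zero hb0) hp.out.one_lt
    rw [hc' i, congrFun (ih _ hlt c' rfl hc'0) i, Pi.zero_apply, mul_zero]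

/-- An integral relation between Brauer characters is one between the ranks of every idempotent. -/
theorem sum_rank_eq_zero (hpM : (p : AlgInt) ∈ M) {ι : Type*} (J : Finset ι) (n : ι → ℕ)
    (ρ : ∀ j, MonoidAlgebra (AlgInt ⧸ M) G →ₐ[AlgInt ⧸ M]
      Matrix (Fin (n j)) (Fin (n j)) (AlgInt ⧸ M))
    (c : ι → ℤ) (h : ∀ g : G, ∑ j ∈ J, (c j : ℂ) * brauer p (ρ j) g = 0)
    {ε : MonoidAlgebra (AlgInt ⧸ M) G} (hε : IsIdempotentElem ε) :
    ∑ j ∈ J, c j * ((ρ j ε).rank : ℤ) = 0 := by
  haveI := isAlgClosed_residue (M := M)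
  haveI : FiniteDimensional (AlgInt ⧸ M) (MonoidAlgebra (AlgInt ⧸ M) G) := moduleFinite
  obtain ⟨S⟩ := nonempty_simples (k := AlgInt ⧸ M) (R := MonoidAlgebra (AlgInt ⧸ M) G)
  have hC : (fun i => ∑ j ∈ J, c j * (S.mult (ρ j) i : ℤ)) = 0 := by
    refine eq_zero_of_sum_brauer (p := p) S hpM _ fun g => ?_
    rw [← h g, Finset.sum_congr rfl fun (j : ι) (_ : j ∈ J) =>
      show (c j : ℂ) * brauer p (ρ j) g = (c j : ℂ) * ∑ i, (S.mult (ρ j) i : ℂ) * brauer p (S.π i) g
        by rw [brauer_eq_sum (ρ j) S hpM g]]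
    push_cast
    simp only [Finset.sum_mul, Finset.mul_sum]
    rw [Finset.sum_comm]
    exact Finset.sum_congr rfl fun j _ => Finset.sum_congr rfl fun i _ => by ring
  calc ∑ j ∈ J, c j * ((ρ j ε).rank : ℤ)
      = ∑ i, ((S.π i ε).rank : ℤ) * ∑ j ∈ J, c j * (S.mult (ρ j) i : ℤ) := by
        simp only [Finset.mul_sum]
        rw [Finset.sum_comm]
        refine Finset.sum_congr rfl fun j _ => ?_
        rw [S.rank_eq (ρ j) hε]
        push_cast
        rw [Finset.mul_sum]
        exact Finset.sum_congr rfl fun i _ => by ring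
    _ = 0 := Finset.sum_eq_zero fun i _ => by
        rw [show (∑ j ∈ J, c j * (S.mult (ρ j) i : ℤ)) = 0 from congrFun hC i, mul_zero]

end Cfsg.Agent.BrauerChar
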