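import Cfsg.Agent.Lib.BrauerChar.Generalized
import Cfsg.Agent.Lib.Blocks.ProjectiveDim
import Cfsg.Agent.Lib.Char.HeightZero

/-!
# Decomposition numbers of one block

* `projDeg`: the degree of a projective indecomposable character; `pow_dvd_projDeg`, `sum_sq_eq`.
* `dvd_simple_dim`: a common divisor of the degrees in a block divides the dimensions of its simples.
* `blockRank_le_card`: the rank of a block is at most its number of simple modules.
* `not_dvd_sum_sq`: the exact `p`-part of the sum of the squares of the degrees of a block.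
-/

set_option autoImplicit false
set_option linter.unusedSectionVars false
set_option linter.style.haveILetI false
set_option synthInstance.maxHeartbeats 200000

namespace Cfsg.Agent.BrauerChar

open Cfsg Cfsg.Agent.Blocks MonoidAlgebra
open Cfsg.Agent.Modular (regPart isPRegular_regPart regPart_of_regular)
open scoped Classical Cfsg.Agent.Blocks ComplexConjugate

universe u

variable {M : Ideal AlgInt} [M.IsMaximal] {p : ℕ} [hp : Fact p.Prime] [CharP (AlgInt ⧸ M) p]
variable {G : Type u} [Group G] [Fintype G]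
variable (S : Simples (AlgInt ⧸ M) (MonoidAlgebra (AlgInt ⧸ M) G)) {B : Set (IrrCharacter G)}

theorem degree_eq_nat (hpM : (p : AlgInt) ∈ M) (χ : IrrCharacter G) :
    Char.degree χ = ∑ i, dec S χ i * S.d i := by
  have h := degree_eq S hpM χ
  rw [Char.apply_one_eq_degree] at h
  exact_mod_cast h

/-- The simple quotients in `B`. -/
noncomputable def simplesIn (B : Set (IrrCharacter G)) : Finset (Fin S.n) :=
  Finset.univ.filter fun i => InBlock S B i

theorem mem_simplesIn {i : Fin S.n} : i ∈ simplesIn S B ↔ InBlock S B i := by simp [simplesIn]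

theorem sum_simplesIn (hB : IsPBlock M B) {χ : IrrCharacter G} (hχ : χ ∈ B) {R : Type*} [CommRing R]
    (f : Fin S.n → R) :
    ∑ i, (dec S χ i : R) * f i = ∑ i ∈ simplesIn S B, (dec S χ i : R) * f i := by
  refine (Finset.sum_subset (Finset.subset_univ _) fun i _ hi => ?_).symm
  rw [dec_eq_zero_of_mem S hB hχ fun h => hi ((mem_simplesIn S).2 h), Nat.cast_zero, zero_mul]

theorem sum_left_inverse_block (hB : IsPBlock M B) {m : Fin S.n → IrrCharacter G → ℤ}
    (hm : ∀ i j, ∑ χ : IrrCharacter G, m i χ * (dec S χ j : ℤ) = if i = j then 1 else 0)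
    (i : Fin S.n) {j : Fin S.n} (hj : InBlock S B j) :
    ∑ χ ∈ Finset.univ.filter (· ∈ B), m i χ * (dec S χ j : ℤ) = if i = j then 1 else 0 := by
  rw [← hm i j]
  refine Finset.sum_subset (Finset.subset_univ _) fun χ _ hχ => ?_
  rw [dec_eq_zero_of_not_mem S hB (fun h => hχ (by simp [h])) hj, Nat.cast_zero, mul_zero]

theorem simple_dim_eq (hpM : (p : AlgInt) ∈ M) (hB : IsPBlock M B)
    {m : Fin S.n → IrrCharacter G → ℤ}
    (hm : ∀ i j, ∑ χ : IrrCharacter G, m i χ * (dec S χ j : ℤ) = if i = j then 1 else 0)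
    {i : Fin S.n} (hi : InBlock S B i) :
    ∑ χ ∈ Finset.univ.filter (· ∈ B), m i χ * (Char.degree χ : ℤ) = S.d i := by
  rw [Finset.sum_congr rfl fun χ hχ => by
    rw [degree_eq_nat S hpM χ, Nat.cast_sum, Finset.sum_congr rfl fun j _ => Nat.cast_mul _ _,
      sum_simplesIn S hB (Finset.mem_filter.1 hχ).2 (fun j => (S.d j : ℤ)), Finset.mul_sum]]
  rw [Finset.sum_comm]
  simp only [← mul_assoc, ← Finset.sum_mul]
  rw [Finset.sum_congr rfl fun j hj => by
    rw [sum_left_inverse_block S hB hm i ((mem_simplesIn S).1 hj)]]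
  simp [(mem_simplesIn S).2 hi]

/-- A common divisor of the degrees in a block divides the dimensions of its simple modules. -/
theorem dvd_simple_dim (hpM : (p : AlgInt) ∈ M) (hB : IsPBlock M B) {g : ℕ}
    (hg : ∀ χ ∈ B, g ∣ Char.degree χ) {i : Fin S.n} (hi : InBlock S B i) : g ∣ S.d i := by
  obtain ⟨m, -, hm⟩ := exists_left_inverse hpM S
  rw [← Int.natCast_dvd_natCast, ← simple_dim_eq S hpM hB hm hi]
  exact Finset.dvd_sum fun χ hχ =>
    dvd_mul_of_dvd_right (Int.natCast_dvd_natCast.2 (hg χ (Finset.mem_filter.1 hχ).2)) _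

/-- The degree of a projective indecomposable character. -/
noncomputable def projDeg (i : Fin S.n) : ℕ := ∑ χ : IrrCharacter G, dec S χ i * Char.degree χ

theorem projDeg_pos (i : Fin S.n) : 0 < projDeg S i := by
  obtain ⟨χ, hχ⟩ := exists_dec_ne_zero S i
  exact Finset.sum_pos' (fun _ _ => Nat.zero_le _)
    ⟨χ, Finset.mem_univ _, Nat.mul_pos (Nat.pos_of_ne_zero hχ) (Char.degree_pos χ)⟩

theorem pow_dvd_projDeg (i : Fin S.n) : p ^ (Nat.card G).factorization p ∣ projDeg S i := by
  obtain ⟨h1, h2, -⟩ := prim_spec S i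
  have h := finrank_range_mulRight (M := M) h1 h2
  rw [Finset.sum_congr rfl fun χ _ => show χ.1 1 * chiL χ.1 (prim S i) =
    ((dec S χ i * Char.degree χ : ℕ) : ℂ) by
      rw [dec_spec, Char.apply_one_eq_degree]; push_cast; ring, ← Nat.cast_sum, Nat.cast_inj] at h
  obtain ⟨P⟩ : Nonempty (Sylow p G) := inferInstance
  rw [← P.card_eq_multiplicity, projDeg, ← h]
  exact ProjDim.card_dvd_finrank_range_mulRight P.isPGroup' (idem_redA h1 h2)

theorem projDeg_eq_block (hB : IsPBlock M B) {i : Fin S.n} (hi : InBlock S B i) :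
    projDeg S i = ∑ χ ∈ Finset.univ.filter (· ∈ B), dec S χ i * Char.degree χ := by
  refine (Finset.sum_subset (Finset.subset_univ _) fun χ _ hχ => ?_).symm
  rw [dec_eq_zero_of_not_mem S hB (fun h => hχ (by simp [h])) hi, zero_mul]

theorem dvd_projDeg (hB : IsPBlock M B) {g : ℕ} (hg : ∀ χ ∈ B, g ∣ Char.degree χ) {i : Fin S.n}
    (hi : InBlock S B i) : g ∣ projDeg S i := by
  rw [projDeg_eq_block S hB hi]
  exact Finset.dvd_sum fun χ hχ => dvd_mul_of_dvd_right (hg χ (Finset.mem_filter.1 hχ).2) _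

theorem sum_sq_eq (hpM : (p : AlgInt) ∈ M) (hB : IsPBlock M B) :
    ∑ χ ∈ Finset.univ.filter (· ∈ B), Char.degree χ ^ 2 =
      ∑ i ∈ simplesIn S B, S.d i * projDeg S i := by
  rw [show ∑ i ∈ simplesIn S B, S.d i * projDeg S i = ∑ i ∈ simplesIn S B,
      ∑ χ ∈ Finset.univ.filter (· ∈ B), S.d i * (dec S χ i * Char.degree χ) from
    Finset.sum_congr rfl fun i hi => by
      rw [projDeg_eq_block S hB ((mem_simplesIn S).1 hi), Finset.mul_sum], Finset.sum_comm]
  refine Finset.sum_congr rfl fun χ hχ => ?_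
  rw [sq]
  conv_lhs => arg 1; rw [degree_eq_nat S hpM χ]
  rw [Finset.sum_mul]
  refine ((Finset.sum_subset (Finset.subset_univ _) fun i _ hi => ?_).symm).trans
    (Finset.sum_congr rfl fun i _ => by ring)
  rw [dec_eq_zero_of_mem S hB (Finset.mem_filter.1 hχ).2 fun h => hi ((mem_simplesIn S).2 h),
    zero_mul, zero_mul]

/-- The rank of a block is at most its number of simple modules. -/
theorem blockRank_le_card (hpM : (p : AlgInt) ∈ M) (hB : IsPBlock M B) :
    blockRank p B ≤ (simplesIn S B).card := by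
  refine le_trans (Submodule.finrank_mono (Submodule.span_le.2 ?_))
    (le_trans (finrank_span_finset_le_card (R := ℂ)
      ((simplesIn S B).image fun i => pRegularPart p (brauer p (S.π i)))) Finset.card_image_le)
  rintro _ ⟨χ, hχ, rfl⟩
  have h : pRegularPart p χ.1 =
      ∑ i ∈ simplesIn S B, (dec S χ i : ℂ) • pRegularPart p (brauer p (S.π i)) := by
    funext g
    simp only [pRegularPart, Finset.sum_apply, Pi.smul_apply, smul_eq_mul]
    by_cases hg : IsPRegular p g
    · simp only [if_pos hg]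
      rw [← sum_simplesIn S hB hχ (fun i => brauer p (S.π i) g), ← apply_regPart_eq S hpM,
        regPart_of_regular hg]
    · simp [if_neg hg]
  rw [SetLike.mem_coe]
  show pRegularPart p χ.1 ∈ _
  rw [h]
  exact Submodule.sum_mem _ fun i hi => Submodule.smul_mem _ _
    (Submodule.subset_span (by simpa using ⟨i, hi, rfl⟩))

/-- The character of the regular block representation at regular elements. -/
theorem sum_degree_mul_apply (hpM : (p : AlgInt) ∈ M) (hB : IsPBlock M B) {g : G}
    (hg : IsPRegular p g) :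
    ∑ χ ∈ Finset.univ.filter (· ∈ B), (Char.degree χ : ℂ) * χ.1 g =
      ∑ i ∈ simplesIn S B, (projDeg S i : ℂ) * brauer p (S.π i) g := by
  rw [show ∑ i ∈ simplesIn S B, (projDeg S i : ℂ) * brauer p (S.π i) g = ∑ i ∈ simplesIn S B,
      ∑ χ ∈ Finset.univ.filter (· ∈ B),
        ((dec S χ i * Char.degree χ : ℕ) : ℂ) * brauer p (S.π i) g from
    Finset.sum_congr rfl fun i hi => by
      rw [projDeg_eq_block S hB ((mem_simplesIn S).1 hi), Nat.cast_sum, Finset.sum_mul],
    Finset.sum_comm]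
  refine Finset.sum_congr rfl fun χ hχ => ?_
  conv_lhs => rw [← regPart_of_regular (p := p) hg, apply_regPart_eq S hpM,
    sum_simplesIn S hB (Finset.mem_filter.1 hχ).2 (fun i => brauer p (S.π i) g), Finset.mul_sum]
  exact Finset.sum_congr rfl fun i _ => by push_cast; ring

/-- The exact `p`-part of the sum of the squares of the degrees of a block. -/
theorem not_dvd_sum_sq (hpM : (p : AlgInt) ∈ M) (hB : IsPBlock M B) {a e : ℕ}
    (ha : (Nat.card G).factorization p = a)
    (he : ∀ χ ∈ B, p ^ e ∣ Char.degree χ)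
    {χ₀ : IrrCharacter G} (hχ₀ : χ₀ ∈ B) (he₀ : ¬ p ^ (e + 1) ∣ Char.degree χ₀) :
    ¬ p ^ (a + e + 1) ∣ ∑ χ ∈ Finset.univ.filter (· ∈ B), Char.degree χ ^ 2 := by
  obtain ⟨S⟩ := (isAlgClosed_residue (M := M) |> fun h => by
    haveI := h
    haveI : FiniteDimensional (AlgInt ⧸ M) (MonoidAlgebra (AlgInt ⧸ M) G) := TwoChars.moduleFinite
    exact nonempty_simples (k := AlgInt ⧸ M) (R := MonoidAlgebra (AlgInt ⧸ M) G))
  obtain ⟨m, -, hm⟩ := exists_left_inverse hpM S
  choose P' hP' using fun i : Fin S.n => pow_dvd_projDeg (p := p) S i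
  set y : IrrCharacter G → ℤ := fun ξ => ∑ i ∈ simplesIn S B, (P' i : ℤ) * m i ξ with hy
  have hT : ∑ ξ ∈ Finset.univ.filter (· ∈ B), y ξ * (Char.degree ξ : ℤ) * (p : ℤ) ^ a =
      ((∑ χ ∈ Finset.univ.filter (· ∈ B), Char.degree χ ^ 2 : ℕ) : ℤ) := by
    rw [sum_sq_eq S hpM hB]
    simp only [hy, Finset.sum_mul]
    rw [Finset.sum_comm]
    push_cast
    refine Finset.sum_congr rfl fun i hi => ?_
    rw [← simple_dim_eq S hpM hB hm ((mem_simplesIn S).1 hi), hP' i, ha, Finset.sum_mul]
    push_cast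
    exact Finset.sum_congr rfl fun ξ _ => by ring
  have hθ : ∀ g, IsPRegular p g →
      ∑ ξ ∈ Finset.univ.filter (· ∈ B), ((y ξ : ℂ) * (p : ℂ) ^ a) * ξ.1 g =
        ∑ χ ∈ Finset.univ.filter (· ∈ B), (Char.degree χ : ℂ) * χ.1 g := by
    intro g hg
    rw [sum_degree_mul_apply S hpM hB hg]
    calc ∑ ξ ∈ Finset.univ.filter (· ∈ B), ((y ξ : ℂ) * (p : ℂ) ^ a) * ξ.1 g
        = ∑ ξ ∈ Finset.univ.filter (· ∈ B), ∑ i ∈ simplesIn S B, ∑ j ∈ simplesIn S B,
            (projDeg S i : ℂ) * ((m i ξ : ℂ) * (dec S ξ j : ℂ)) * brauer p (S.π j) g := by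
          refine Finset.sum_congr rfl fun ξ hξ => ?_
          conv_lhs => arg 2; rw [← regPart_of_regular (p := p) hg, apply_regPart_eq S hpM,
            sum_simplesIn S hB (Finset.mem_filter.1 hξ).2 (fun i => brauer p (S.π i) g)]
          simp only [hy, Int.cast_sum, Int.cast_mul, Int.cast_natCast, Finset.sum_mul, Finset.mul_sum]
          rw [Finset.sum_comm]
          refine Finset.sum_congr rfl fun i _ => Finset.sum_congr rfl fun j _ => ?_
          rw [hP' i, ha]
          push_cast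
          ring
      _ = ∑ i ∈ simplesIn S B, ∑ j ∈ simplesIn S B,
            (projDeg S i : ℂ) * (if i = j then 1 else 0) * brauer p (S.π j) g := by
          rw [Finset.sum_comm]
          refine Finset.sum_congr rfl fun i _ => ?_
          rw [Finset.sum_comm]
          refine Finset.sum_congr rfl fun j hj => ?_
          rw [← Finset.sum_mul, ← Finset.mul_sum]
          congr 2
          have h := congrArg (fun z : ℤ => (z : ℂ))
            (sum_left_inverse_block S hB hm i ((mem_simplesIn S).1 hj))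
          simpa using h
      _ = _ := by
          refine Finset.sum_congr rfl fun i hi => ?_
          simp [mul_ite, ite_mul, hi]
  choose n hn using fun ξ => Char.exists_int_regInner hp.out χ₀ ξ
  -- the inner product with `θ`
  have hinner : ∑ ξ ∈ Finset.univ.filter (· ∈ B), (y ξ : ℂ) * (n ξ : ℂ) = (Char.degree χ₀ : ℂ) := by
    have hpa : (p : ℂ) ^ a ≠ 0 := pow_ne_zero _ (Nat.cast_ne_zero.2 hp.out.ne_zero)
    refine mul_left_cancel₀ hpa ?_
    have hsing : ∀ g, ¬ IsPRegular p g →
        ∑ ξ ∈ Finset.univ.filter (· ∈ B), (Char.degree ξ : ℂ) * conj (ξ.1 g) = 0 := by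
      intro g hg
      have h := blockCoeff_eq_zero hpM hB hg
      rw [blockCoeff_eq_sum] at h
      simp only [Char.apply_one_eq_degree] at h
      exact (mul_eq_zero.1 h).resolve_left (inv_ne_zero (Nat.cast_ne_zero.2 Nat.card_pos.ne'))
    calc (p : ℂ) ^ a * ∑ ξ ∈ Finset.univ.filter (· ∈ B), (y ξ : ℂ) * (n ξ : ℂ)
        = ∑ ξ ∈ Finset.univ.filter (· ∈ B),
            conj ((y ξ : ℂ) * (p : ℂ) ^ a) * Char.regInner p χ₀.1 ξ.1 := by
          rw [Finset.mul_sum]
          refine Finset.sum_congr rfl fun ξ _ => ?_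
          rw [hn ξ, map_mul, map_pow, map_intCast, map_natCast]
          ring
      _ = (p : ℂ) ^ a * ((Nat.card G : ℂ)⁻¹ * ∑ g : G, χ₀.1 g *
            ∑ ξ ∈ Finset.univ.filter (· ∈ B), (Char.degree ξ : ℂ) * conj (ξ.1 g)) := by
          simp only [Char.regInner, classInner, Pi.smul_apply, smul_eq_mul, ha, Finset.mul_sum]
          rw [Finset.sum_comm]
          refine Finset.sum_congr rfl fun g _ => ?_
          by_cases hg : IsPRegular p g
          · have h := congrArg conj (hθ g hg)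
            simp only [map_sum, map_mul, map_natCast, map_intCast, map_pow] at h
            simp only [Char.regFun, if_neg (show ¬ p ∣ orderOf g from hg)]
            push_cast
            simp only [← Finset.mul_sum, ← h, map_mul, map_intCast, map_pow, map_natCast]
            rw [Finset.mul_sum, Finset.mul_sum, Finset.mul_sum]
            exact Finset.sum_congr rfl fun ξ _ => by ring
          · simp only [Char.regFun, if_pos (not_not.1 hg : p ∣ orderOf g)]
            have h := hsing g hg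
            simp only [← Finset.mul_sum, h]
            simp
      _ = (p : ℂ) ^ a * (Char.degree χ₀ : ℂ) := by
          congr 1
          calc (Nat.card G : ℂ)⁻¹ * ∑ g : G, χ₀.1 g *
                ∑ ξ ∈ Finset.univ.filter (· ∈ B), (Char.degree ξ : ℂ) * conj (ξ.1 g)
              = ∑ ξ ∈ Finset.univ.filter (· ∈ B), (Char.degree ξ : ℂ) * classInner χ₀.1 ξ.1 := by
                simp only [classInner, Finset.mul_sum]
                rw [Finset.sum_comm]
                exact Finset.sum_congr rfl fun ξ _ => Finset.sum_congr rfl fun g _ => by ring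
            _ = _ := by simp [Char.classInner_irr, hχ₀]
  -- congruence
  intro hdvd
  set q : IrrCharacter G → ℂ := fun ξ => (n ξ : ℂ) / ξ.1 1 with hq
  have hqloc : ∀ ξ, MemLocalRing M (q ξ) := fun ξ => by
    rw [hq]; simp only; rw [← hn ξ]
    exact Char.memLocalRing_regInner_div hpM hp.out χ₀ ξ
  have hqcong : ∀ ξ ∈ B, MemLocalIdeal M (q ξ - q χ₀) := fun ξ hξ => by
    rw [hq]; simp only; rw [← hn ξ, ← hn χ₀]
    exact Char.memLocalIdeal_regInner_div_sub hpM hp.out χ₀ (sameBlock_of_mem hB hξ hχ₀)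
  have hpe : ((p : ℂ) ^ e) ≠ 0 := pow_ne_zero _ (Nat.cast_ne_zero.2 hp.out.ne_zero)
  have hde : ∀ ξ, ξ ∈ B → (Char.degree ξ : ℂ) = (p : ℂ) ^ e * ((Char.degree ξ / p ^ e : ℕ) : ℂ) :=
    fun ξ hξ => by rw [← Nat.cast_pow, ← Nat.cast_mul, Nat.mul_div_cancel' (he ξ hξ)]
  set s : ℤ := ∑ ξ ∈ Finset.univ.filter (· ∈ B), y ξ * ((Char.degree ξ / p ^ e : ℕ) : ℤ) with hs
  have hps : (p : ℤ) ∣ s := by
    have h1 : ((p ^ (a + e + 1) : ℕ) : ℤ) ∣
        ((∑ χ ∈ Finset.univ.filter (· ∈ B), Char.degree χ ^ 2 : ℕ) : ℤ) :=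
      Int.natCast_dvd_natCast.2 hdvd
    rw [← hT, Finset.sum_congr rfl fun ξ hξ => show
      y ξ * (Char.degree ξ : ℤ) * (p : ℤ) ^ a =
        ((p : ℤ) ^ (a + e)) * (y ξ * ((Char.degree ξ / p ^ e : ℕ) : ℤ)) by
        conv_lhs => rw [← Nat.mul_div_cancel' (he ξ (Finset.mem_filter.1 hξ).2)]
        push_cast
        ring, ← Finset.mul_sum, ← hs, Nat.cast_pow, pow_succ] at h1
    exact Int.dvd_of_mul_dvd_mul_left (pow_ne_zero _ (Int.natCast_ne_zero.2 hp.out.ne_zero)) h1
  have hmain : MemLocalIdeal M ((Char.degree χ₀ / p ^ e : ℕ) : ℂ) := by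
    have heq : ((Char.degree χ₀ / p ^ e : ℕ) : ℂ) =
        ∑ ξ ∈ Finset.univ.filter (· ∈ B),
          (y ξ : ℂ) * ((Char.degree ξ / p ^ e : ℕ) : ℂ) * (q ξ - q χ₀) + (s : ℂ) * q χ₀ := by
      refine mul_left_cancel₀ hpe ?_
      rw [← hde χ₀ hχ₀, ← hinner, hs]
      simp only [Int.cast_sum, Int.cast_mul, Int.cast_natCast]
      rw [Finset.sum_mul, ← Finset.sum_add_distrib, Finset.mul_sum]
      refine Finset.sum_congr rfl fun ξ hξ => ?_
      have h1 : (n ξ : ℂ) = q ξ * ((p : ℂ) ^ e * ((Char.degree ξ / p ^ e : ℕ) : ℂ)) := by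
        rw [← hde ξ (Finset.mem_filter.1 hξ).2, ← Char.apply_one_eq_degree, hq]
        simp only
        rw [div_mul_cancel₀ _ (irr_one_ne_zero ξ)]
      rw [h1]
      ring
    rw [heq]
    refine MemLocalIdeal.add (MemLocalIdeal.sum _ fun ξ hξ => ?_)
      (MemLocalIdeal.mul_right ((memLocalIdeal_intCast_iff hpM s).2 hps) (hqloc χ₀))
    exact MemLocalIdeal.mul_left
      (MemLocalRing.mul (memLocalRing_intCast _) (memLocalRing_natCast _))
      (hqcong ξ (Finset.mem_filter.1 hξ).2)
  refine he₀ ?_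
  rw [pow_succ, ← Nat.mul_div_cancel' (he χ₀ hχ₀)]
  exact mul_dvd_mul_left _ ((memLocalIdeal_natCast_iff hpM _).1 hmain)

end Cfsg.Agent.BrauerChar
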