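import Cfsg.Agent.Lib.BrauerChar.Basic
import Cfsg.Agent.Lib.Star.Integrality

/-!
# Decomposition numbers

* `exists_equiv`: idempotents with equal ranks in all simple quotients are equivalent.
* `dec S χ i`: the value of `χ` at a lift of a primitive idempotent for the `i`-th simple quotient;
  `chiL_idem_eq`, `apply_regPart_eq` (`χ = Σ dec φ` on regular elements), `degree_eq`.
* `dec_eq_zero_of_mem`, `dec_eq_zero_of_not_mem`: decomposition numbers respect blocks.
-/

set_option autoImplicit false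
set_option linter.unusedSectionVars false
set_option linter.style.haveILetI false
set_option synthInstance.maxHeartbeats 200000

namespace Cfsg.Agent.BrauerChar

open Cfsg Cfsg.Agent.Blocks MonoidAlgebra
open Cfsg.Agent.Modular (regPart isPRegular_regPart)
open Cfsg.Agent.Blocks.LocalRankTwo (isNilpotent_of_mem)
open Cfsg.Agent.BrauerPairs (fixedBy mem_fixedBy_iff_coeff br br_eq_self)
open scoped Classical Cfsg.Agent.Blocks ComplexConjugate

universe u v w

namespace Simples

variable {k : Type v} [Field k] {R : Type w} [Ring R] [Algebra k R] [FiniteDimensional k R]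
  (S : Simples k R)

theorem rank_pi_diag (i : Fin S.n) (a : Fin (S.d i)) (j : Fin S.n) :
    (S.π j (S.diag ⟨i, a⟩)).rank = if j = i then 1 else 0 := by
  rw [S.diag_spec.2]
  split_ifs with h
  · subst h
    rw [Pi.single_eq_same]
    obtain ⟨U, V, hUV, hVU⟩ := exists_factor (k := k) (P := Matrix.single a a (1 : k))
      (by show _ * _ = _; rw [Matrix.single_mul_single_same, one_mul])
    refine le_antisymm ?_ (Nat.one_le_iff_ne_zero.2 fun h0 => ?_)
    · rw [Matrix.single_eq_single_vecMulVec_single]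
      exact Matrix.rank_vecMulVec_le _ _
    · have h1 := congrFun (congrFun (hUV : Matrix.single a a (1 : k) = U * V) a) a
      rw [Matrix.single_apply, if_pos ⟨rfl, rfl⟩, Matrix.mul_apply,
        Finset.sum_eq_zero fun c _ => absurd c.2 (by simp [h0])] at h1
      exact one_ne_zero h1
  · rw [Pi.single_eq_of_ne h, Matrix.rank_zero]

/-- Idempotents with the same ranks in all simple quotients are equivalent. -/
theorem exists_equiv {ε η : R} (hε : IsIdempotentElem ε) (hη : IsIdempotentElem η)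
    (h : ∀ i, (S.π i ε).rank = (S.π i η).rank) : ∃ a b : R, a * b = ε ∧ b * a = η := by
  have hfac : ∀ i, ∃ (r : ℕ) (U U' : Matrix (Fin (S.d i)) (Fin r) k)
      (V V' : Matrix (Fin r) (Fin (S.d i)) k), S.π i ε = U * V ∧ V * U = 1 ∧
      S.π i η = U' * V' ∧ V' * U' = 1 := by
    intro i
    obtain ⟨U, V, h1, h2⟩ := exists_factor (hε.map (S.π i))
    obtain ⟨U', V', h3, h4⟩ := exists_factor (hη.map (S.π i))
    revert U' V'
    rw [← h i]
    intro U' V' h3 h4
    exact ⟨_, U, U', V, V', h1, h2, h3, h4⟩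
  choose r U U' V V' h1 h2 h3 h4 using hfac
  obtain ⟨X, hX⟩ := S.surj fun i => U i * V' i
  obtain ⟨Y, hY⟩ := S.surj fun i => U' i * V i
  set z := ε * (X * η * Y) * ε with hz
  have hπz : ∀ i, S.π i z = S.π i ε := by
    intro i
    rw [hz]
    simp only [map_mul, hX, hY, h1 i, h3 i]
    rw [show U i * V i * (U i * V' i * (U' i * V' i) * (U' i * V i)) * (U i * V i) =
      U i * (V i * U i) * (V' i * U' i) * (V' i * U' i) * (V i * U i) * V i by
        simp only [Matrix.mul_assoc], h2, h4]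
    simp
  obtain ⟨u, hu⟩ := S.isUnit_of_map_eq_one (x := z + (1 - ε)) fun i => by
    rw [map_add, map_sub, map_one, hπz, add_sub_cancel]
  have hzε : z * ε = z := by rw [hz, mul_assoc, hε.eq]
  have hεz : ε * z = z := by rw [hz, ← mul_assoc, ← mul_assoc, hε.eq]
  have hεu : ε * ↑u⁻¹ = ↑u⁻¹ * ε := by
    have hc : Commute ε (u : R) := by
      show ε * ↑u = ↑u * ε
      rw [hu, mul_add, add_mul, hεz, hzε, mul_sub, sub_mul, mul_one, one_mul]
    exact hc.units_inv_right.eq
  set a := ε * X * η with ha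
  set b := η * Y * ε * ↑u⁻¹ with hb
  have hab : a * b = ε := by
    have : z = ε * ↑u := by rw [hu, mul_add, hεz, mul_sub, mul_one, hε.eq, sub_self, add_zero]
    calc a * b = ε * X * (η * η) * Y * ε * ↑u⁻¹ := by simp only [ha, hb, mul_assoc]
      _ = z * ↑u⁻¹ := by rw [hη.eq, hz]; simp only [mul_assoc]
      _ = ε := by rw [this, Units.mul_inv_cancel_right]
  have haε : ε * a = a := by rw [ha, ← mul_assoc, ← mul_assoc, hε.eq]
  have hbε : b * ε = b := by rw [hb, mul_assoc _ (↑u⁻¹ : R), ← hεu, ← mul_assoc, mul_assoc _ ε ε, hε.eq]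
  have hid : IsIdempotentElem (b * a) := by
    show b * a * (b * a) = b * a
    rw [mul_assoc, ← mul_assoc a, hab, haε]
  have hηb : η * b = b := by rw [hb, ← mul_assoc, ← mul_assoc, ← mul_assoc, hη.eq]
  have haη : a * η = a := by rw [ha, mul_assoc, hη.eq]
  have hle1 : η * (b * a) = b * a := by rw [← mul_assoc, hηb]
  have hle2 : b * a * η = b * a := by rw [mul_assoc, haη]
  have hsub : IsIdempotentElem (η - b * a) := by
    show (η - b * a) * (η - b * a) = η - b * a
    rw [sub_mul, mul_sub, mul_sub, hη.eq, hle1, hle2, hid.eq]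
    abel
  have hπ : ∀ i, S.π i (η - b * a) = 0 := by
    intro i
    have hP := hid.map (S.π i)
    have hQ := hsub.map (S.π i)
    have horth1 : S.π i (b * a) * S.π i (η - b * a) = 0 := by
      rw [← map_mul, mul_sub, hle2, hid.eq, sub_self, map_zero]
    have horth2 : S.π i (η - b * a) * S.π i (b * a) = 0 := by
      rw [← map_mul, sub_mul, hle1, hid.eq, sub_self, map_zero]
    have h5 := rank_add_of_mul_eq_zero hP hQ horth1 horth2
    rw [← map_add, add_sub_cancel, ← h i] at h5
    have h6 : (S.π i ε).rank ≤ (S.π i (b * a)).rank := by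
      have h8 : ε = a * (b * a) * b := by
        rw [show a * (b * a) * b = a * b * (a * b) by simp only [mul_assoc], hab, hε.eq]
      conv_lhs => rw [h8]
      rw [map_mul, map_mul]
      exact (Matrix.rank_mul_le_left _ _).trans (Matrix.rank_mul_le_right _ _)
    obtain ⟨U₀, V₀, hUV, -⟩ := exists_factor hQ
    have h7 : (S.π i (η - b * a)).rank = 0 := by omega
    rw [hUV]
    ext x y
    rw [Matrix.mul_apply, Matrix.zero_apply]
    exact Finset.sum_eq_zero fun c _ => absurd c.2 (by omega)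
  exact ⟨a, b, hab, (sub_eq_zero.1 (BrauerPairs.eq_zero_of_idem_nilpotent hsub.eq
    (isNilpotent_of_mem k (S.ker _ hπ)))).symm⟩

theorem exists_sum_diag {ε : R} :
    ∃ T : Finset (Σ i, Fin (S.d i)),
      (∀ j, (S.π j (∑ ia ∈ T, S.diag ia)).rank = (S.π j ε).rank) ∧
      ∀ j, (T.filter fun ia => ia.1 = j).card = (S.π j ε).rank := by
  let T : Finset (Σ i, Fin (S.d i)) := Finset.univ.filter fun ia => ia.2.1 < (S.π ia.1 ε).rank
  have hcard : ∀ j, (T.filter fun ia => ia.1 = j).card = (S.π j ε).rank := by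
    intro j
    have hle : (S.π j ε).rank ≤ S.d j := Matrix.rank_le_width _
    have : (T.filter fun ia => ia.1 = j) =
        Finset.univ.image fun b : Fin (S.π j ε).rank => (⟨j, Fin.castLE hle b⟩ : Σ i, Fin (S.d i)) := by
      ext ⟨i, a⟩
      simp only [T, Finset.mem_filter, Finset.mem_univ, true_and, Finset.mem_image]
      constructor
      · rintro ⟨ha, rfl⟩
        exact ⟨⟨a.1, ha⟩, rfl⟩
      · rintro ⟨b, hb⟩
        obtain ⟨rfl, hb⟩ := Sigma.mk.injEq .. ▸ hb
        exact ⟨(eq_of_heq hb) ▸ b.2, rfl⟩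
    rw [this, Finset.card_image_of_injective _ fun b c hbc => by
      simpa using hbc, Finset.card_univ, Fintype.card_fin]
  refine ⟨T, fun j => ?_, hcard⟩
  rw [rank_sum_orth (S.π j) T S.diag_spec.1.toOrthogonalIdempotents, ← hcard j,
    Finset.card_filter]
  exact Finset.sum_congr rfl fun ia _ => by
    rw [show ia = ⟨ia.1, ia.2⟩ from rfl, S.rank_pi_diag ia.1 ia.2 j]
    simp only [eq_comm]

/-- An idempotent central in every simple quotient is `0` or `1` there. -/
theorem map_central (i : Fin S.n) {e : R} (he : IsIdempotentElem e) (hc : ∀ x, Commute e x) :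
    S.π i e = 0 ∨ S.π i e = 1 := by
  haveI : Nonempty (Fin (S.d i)) := ⟨⟨0, S.pos i⟩⟩
  obtain ⟨c, hc'⟩ := (Matrix.mem_range_scalar_iff_commute_single (M := S.π i e)).2 fun a b _ => by
    obtain ⟨x, hx⟩ := S.surj (Pi.single i (Matrix.single a b 1))
    have h := (hc x).symm.map (S.π i)
    rwa [hx, Pi.single_eq_same] at h
  have h2 : c * c = c := by
    have h := (he.map (S.π i)).eq
    rw [← hc', ← map_mul] at h
    have := congrFun (congrFun h ⟨0, S.pos i⟩) ⟨0, S.pos i⟩
    simpa using this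
  rcases eq_or_ne c 0 with h0 | h0
  · left; rw [← hc', h0, map_zero]
  · right; rw [← hc', show c = 1 from mul_left_cancel₀ h0 (by rw [h2, mul_one]), map_one]

end Simples

variable {M : Ideal AlgInt} [M.IsMaximal] {p : ℕ} [hp : Fact p.Prime] [CharP (AlgInt ⧸ M) p]
variable {G : Type u} [Group G] [Fintype G]

theorem mem_fixedBy_zpowers_one {K : Type*} [CommRing K] (a : MonoidAlgebra K G) :
    a ∈ fixedBy K (Subgroup.zpowers (1 : G)) :=
  mem_fixedBy_iff_coeff.2 fun h hh x => by
    rw [Subgroup.zpowers_one_eq_bot, Subgroup.mem_bot] at hh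
    subst hh
    simp

theorem br_zpowers_one (a : MonoidAlgebra (AlgInt ⧸ M) G) : br (Subgroup.zpowers (1 : G)) a = a :=
  br_eq_self fun x hx => absurd (Subgroup.mem_centralizer_iff.2 fun h hh => by
    rw [SetLike.mem_coe, Subgroup.zpowers_one_eq_bot, Subgroup.mem_bot] at hh
    subst hh
    simp) hx

theorem isPPart_one' : IsPPart p (1 : G) 1 :=
  ⟨1, one_mul 1, Commute.one_left 1, ⟨0, by simp⟩, by
    show ¬ p ∣ orderOf (1 : G)
    rw [orderOf_one]
    exact hp.out.not_dvd_one⟩

theorem kappa_one_eq (hpM : (p : AlgInt) ∈ M) (χ : IrrCharacter G) {X : MonoidAlgebra ℂ G}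
    (hX : SCoeff M X) (hi : IsIdempotentElem X) :
    Star.kappa M χ.1 1 1 (redA M X) = chiL χ.1 X := by
  rw [Star.kappa_eq hpM isPPart_one' χ (X := X)
    ⟨hX, mem_fixedBy_zpowers_one X, hi.eq, br_zpowers_one _⟩, ← MonoidAlgebra.one_def, mul_one]

theorem exists_chiL_eq_nat (χ : IrrCharacter G) {X : MonoidAlgebra ℂ G} (hi : IsIdempotentElem X) :
    ∃ n : ℕ, chiL χ.1 X = n := by
  obtain ⟨n, ρ, h⟩ := Star.isCharacter_chiL_idem χ (mem_fixedBy_zpowers_one X) hi.eq
  refine ⟨Module.finrank ℂ (Fin n → ℂ), ?_⟩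
  rw [← Representation.char_one ρ, h]
  show chiL χ.1 X = chiL χ.1 (X * MonoidAlgebra.single ((1 : Subgroup.zpowers (1 : G)) : G) 1)
  rw [OneMemClass.coe_one, ← MonoidAlgebra.one_def, mul_one]

variable (S : Simples (AlgInt ⧸ M) (MonoidAlgebra (AlgInt ⧸ M) G))

theorem exists_prim_lift (i : Fin S.n) :
    ∃ X : MonoidAlgebra ℂ G, SCoeff M X ∧ IsIdempotentElem X ∧
      redA M X = S.diag ⟨i, ⟨0, S.pos i⟩⟩ := by
  haveI : FiniteDimensional (AlgInt ⧸ M) (MonoidAlgebra (AlgInt ⧸ M) G) := moduleFinite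
  obtain ⟨X, h1, -, h3, h4⟩ := Star.exists_idem_lift (M := M) (H := Subgroup.zpowers (1 : G))
    (S.diag_spec.1.idem ⟨i, ⟨0, S.pos i⟩⟩).eq (mem_fixedBy_zpowers_one _)
  exact ⟨X, h1, h3, h4⟩

/-- A lift of a primitive idempotent. -/
noncomputable def prim (i : Fin S.n) : MonoidAlgebra ℂ G := (exists_prim_lift S i).choose

theorem prim_spec (i : Fin S.n) : SCoeff M (prim S i) ∧ IsIdempotentElem (prim S i) ∧
    redA M (prim S i) = S.diag ⟨i, ⟨0, S.pos i⟩⟩ :=
  (exists_prim_lift S i).choose_spec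

/-- The decomposition numbers. -/
noncomputable def dec (χ : IrrCharacter G) (i : Fin S.n) : ℕ :=
  (exists_chiL_eq_nat χ (prim_spec S i).2.1).choose

theorem dec_spec (χ : IrrCharacter G) (i : Fin S.n) : chiL χ.1 (prim S i) = (dec S χ i : ℂ) :=
  (exists_chiL_eq_nat χ (prim_spec S i).2.1).choose_spec

/-- A character at an idempotent. -/
theorem chiL_idem_eq (hpM : (p : AlgInt) ∈ M) (χ : IrrCharacter G) {X : MonoidAlgebra ℂ G}
    (hX : SCoeff M X) (hi : IsIdempotentElem X) :
    chiL χ.1 X = ∑ i, (dec S χ i : ℂ) * ((S.π i (redA M X)).rank : ℂ) := by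
  haveI : FiniteDimensional (AlgInt ⧸ M) (MonoidAlgebra (AlgInt ⧸ M) G) := moduleFinite
  have hfix := fun a : MonoidAlgebra (AlgInt ⧸ M) G => mem_fixedBy_zpowers_one a
  have hbr := fun a : MonoidAlgebra (AlgInt ⧸ M) G => br_zpowers_one a
  set κ := Star.kappa M χ.1 (1 : G) 1 with hκ
  obtain ⟨hη, -⟩ := S.diag_spec
  have hequiv : ∀ {ε η : MonoidAlgebra (AlgInt ⧸ M) G}, IsIdempotentElem ε → IsIdempotentElem η →
      (∀ i, (S.π i ε).rank = (S.π i η).rank) → κ ε = κ η := by
    intro ε η hε hη h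
    obtain ⟨a, b, hab, hba⟩ := S.exists_equiv hε hη h
    exact Star.kappa_equiv hpM isPPart_one' χ hε.eq hη.eq (hfix a) (hfix b) (hbr a) (hbr b) hab hba
  have hsum : ∀ T : Finset (Σ i, Fin (S.d i)),
      κ (∑ ia ∈ T, S.diag ia) = ∑ ia ∈ T, κ (S.diag ia) := by
    intro T
    induction T using Finset.induction_on with
    | empty => simpa using Star.kappa_zero hpM isPPart_one' χ
    | insert a T ha ih =>
      rw [Finset.sum_insert ha, Finset.sum_insert ha, ← ih]
      refine Star.kappa_add hpM isPPart_one' χ (hη.idem a).eq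
        hη.toOrthogonalIdempotents.isIdempotentElem_sum.eq ?_ ?_ (hfix _) (hfix _) (hbr _) (hbr _)
      · rw [Finset.mul_sum]
        exact Finset.sum_eq_zero fun j hj => hη.ortho fun h => ha (h ▸ hj)
      · rw [Finset.sum_mul]
        exact Finset.sum_eq_zero fun j hj => hη.ortho fun h => ha (h ▸ hj)
  obtain ⟨T, hT, hcard⟩ := S.exists_sum_diag (ε := redA M X)
  have hterm : ∀ ia : Σ i, Fin (S.d i), κ (S.diag ia) = (dec S χ ia.1 : ℂ) := by
    rintro ⟨i, a⟩
    rw [hequiv (hη.idem _) (hη.idem (⟨i, ⟨0, S.pos i⟩⟩ : Σ i, Fin (S.d i))) fun j => by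
      rw [S.rank_pi_diag, S.rank_pi_diag]]
    rw [← (prim_spec S i).2.2, hκ, kappa_one_eq hpM χ (prim_spec S i).1 (prim_spec S i).2.1, dec_spec]
  rw [← kappa_one_eq hpM χ hX hi, ← hκ,
    hequiv (idem_redA hX hi) hη.toOrthogonalIdempotents.isIdempotentElem_sum fun i => (hT i).symm,
    hsum, Finset.sum_congr rfl fun ia _ => hterm ia, ← Finset.sum_fiberwise T (fun ia => ia.1)]
  refine Finset.sum_congr rfl fun j _ => ?_
  rw [Finset.sum_congr rfl fun ia hia => by rw [(Finset.mem_filter.1 hia).2], Finset.sum_const,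
    hcard, nsmul_eq_mul, mul_comm]

/-- An irreducible character on regular elements through the Brauer characters. -/
theorem apply_regPart_eq (hpM : (p : AlgInt) ∈ M) (χ : IrrCharacter G) (g : G) :
    χ.1 (regPart (p := p) g) = ∑ i, (dec S χ i : ℂ) * brauer p (S.π i) g := by
  set s := regPart (p := p) g with hs
  have hroot : ∀ ζ ∈ Polynomial.nthRootsFinset (orderOf s) (1 : ℂ), ζ ^ orderOf s = 1 := fun ζ hζ =>
    (Polynomial.mem_nthRootsFinset (orderOf_pos s) _).1 hζ
  calc χ.1 s = chiL χ.1 (single s 1 * ∑ ζ ∈ Polynomial.nthRootsFinset (orderOf s) (1 : ℂ),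
        eigIdem s ζ) := by rw [sum_eigIdem, mul_one, chiL_single, one_mul]
    _ = ∑ ζ ∈ Polynomial.nthRootsFinset (orderOf s) (1 : ℂ), ∑ i,
        (dec S χ i : ℂ) * (((S.π i (redA M (eigIdem s ζ))).rank : ℂ) * ζ) := by
      rw [Finset.mul_sum, chiL_sum]
      refine Finset.sum_congr rfl fun ζ hζ => ?_
      rw [single_mul_eigIdem (hroot ζ hζ), chiL_smul,
        chiL_idem_eq S hpM χ (scoeff_eigIdem hpM (isPRegular_regPart g) (hroot ζ hζ))
          (eigIdem_isIdempotentElem (hroot ζ hζ)), Finset.mul_sum]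
      exact Finset.sum_congr rfl fun i _ => by ring
    _ = _ := by
      rw [Finset.sum_comm]
      exact Finset.sum_congr rfl fun i _ => by rw [brauer, Finset.mul_sum]

theorem degree_eq (hpM : (p : AlgInt) ∈ M) (χ : IrrCharacter G) :
    χ.1 1 = ∑ i, (dec S χ i : ℂ) * (S.d i : ℂ) := by
  rw [← chiL_one χ.1, chiL_idem_eq S hpM χ scoeff_one IsIdempotentElem.one]
  refine Finset.sum_congr rfl fun i _ => ?_
  rw [redA_one, map_one, Matrix.rank_one, Fintype.card_fin]

section Blocks

variable {B : Set (IrrCharacter G)}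

/-- The simple quotient `i` lies in `B`. -/
def InBlock (B : Set (IrrCharacter G)) (i : Fin S.n) : Prop := S.π i (redA M (blockIdem B)) = 1

theorem chiL_blockIdem_mul (χ : IrrCharacter G) (z : MonoidAlgebra ℂ G) :
    chiL χ.1 (blockIdem B * z) = if χ ∈ B then chiL χ.1 z else 0 := by
  rw [chiL_mul_of_central χ (isCentralElt_blockIdem B), omega_blockIdem]
  split_ifs <;> simp

theorem idem_blockIdem_redA (hB : IsPBlock M B) : IsIdempotentElem (redA M (blockIdem B)) :=
  idem_redA (scoeff_blockIdem hB) (blockIdem_mul_self B)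

theorem commute_blockIdem_redA (hB : IsPBlock M B) (x : MonoidAlgebra (AlgInt ⧸ M) G) :
    Commute (redA M (blockIdem B)) x :=
  (isCentralElt_redA (isCentralElt_blockIdem B)).commute x

theorem dec_eq_zero_aux (χ : IrrCharacter G) (i : Fin S.n)
    {X : MonoidAlgebra ℂ G} (hX : SCoeff M X) (hXX : IsIdempotentElem X)
    (hXc : ∀ z, Commute X z) (hπ : S.π i (redA M X) = 0)
    (hχ : chiL χ.1 (X * prim S i) = chiL χ.1 (prim S i)) : dec S χ i = 0 := by
  haveI : FiniteDimensional (AlgInt ⧸ M) (MonoidAlgebra (AlgInt ⧸ M) G) := moduleFinite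
  obtain ⟨hp1, hp2, hp3⟩ := prim_spec S i
  have hid : IsIdempotentElem (X * prim S i) := by
    show X * prim S i * (X * prim S i) = X * prim S i
    rw [mul_assoc, ← mul_assoc (prim S i), (hXc (prim S i)).symm.eq, mul_assoc X, hp2.eq,
      ← mul_assoc, hXX.eq]
  have h0 : redA M (X * prim S i) = 0 := by
    refine BrauerPairs.eq_zero_of_idem_nilpotent ((idem_redA (SCoeff.mul hX hp1) hid).eq)
      (isNilpotent_of_mem (AlgInt ⧸ M) (S.ker _ fun j => ?_))
    rw [redA_mul hX hp1, map_mul, hp3, S.diag_spec.2]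
    by_cases hj : j = i
    · subst hj
      rw [hπ, zero_mul]
    · rw [Pi.single_eq_of_ne hj, mul_zero]
  rw [Star.eq_zero_of_idem_redA (SCoeff.mul hX hp1) hid.eq h0, chiL_zero, dec_spec] at hχ
  exact_mod_cast hχ.symm

theorem dec_eq_zero_of_mem (hB : IsPBlock M B) {χ : IrrCharacter G} (hχ : χ ∈ B) {i : Fin S.n}
    (hi : ¬ InBlock S B i) : dec S χ i = 0 := by
  haveI : FiniteDimensional (AlgInt ⧸ M) (MonoidAlgebra (AlgInt ⧸ M) G) := moduleFinite
  refine dec_eq_zero_aux S χ i (scoeff_blockIdem hB) (blockIdem_mul_self B)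
    (fun z => (isCentralElt_blockIdem B).commute z) ?_ (by rw [chiL_blockIdem_mul, if_pos hχ])
  exact ((S.map_central i (idem_blockIdem_redA hB) (commute_blockIdem_redA hB)).resolve_right hi)

theorem dec_eq_zero_of_not_mem (hB : IsPBlock M B) {χ : IrrCharacter G} (hχ : χ ∉ B) {i : Fin S.n}
    (hi : InBlock S B i) : dec S χ i = 0 := by
  refine dec_eq_zero_aux S χ i (SCoeff.sub scoeff_one (scoeff_blockIdem hB))
    (IsIdempotentElem.one_sub (blockIdem_mul_self B))
    (fun z => (Commute.one_left z).sub_left ((isCentralElt_blockIdem B).commute z)) ?_ ?_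
  · rw [redA_sub scoeff_one (scoeff_blockIdem hB), redA_one, map_sub, map_one, hi, sub_self]
  · rw [sub_mul, one_mul, chiL_sub, chiL_blockIdem_mul, if_neg hχ, sub_zero]

end Blocks

end Cfsg.Agent.BrauerChar
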