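import Cfsg.Agent.Lib.BrauerChar.Decomp
import Cfsg.Agent.Lib.Char.Generalized
import Cfsg.Agent.Lib.Blocks.TwoChars
import Mathlib.RepresentationTheory.Maschke
import Mathlib.RingTheory.Jacobson.Semiprimary

/-!
# Brauer characters are generalized characters

* `finrank_range_mulRight`: the dimension of the projective ideal of an idempotent with a lift.
* `isGeneralizedCharacter_brauer`: the extension `brauer p ρ` of a Brauer character to `G`.
* `exists_left_inverse`: the decomposition matrix has an integral left inverse.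
-/

set_option autoImplicit false
set_option linter.unusedSectionVars false
set_option linter.style.haveILetI false
set_option synthInstance.maxHeartbeats 200000

namespace Cfsg.Agent.BrauerChar

open Cfsg Cfsg.Agent.Blocks MonoidAlgebra
open Cfsg.Agent.Modular (regPart isPRegular_regPart regPart_of_regular exists_exponent pow_exponent)
open scoped Classical Cfsg.Agent.Blocks

universe u

variable {M : Ideal AlgInt} [M.IsMaximal] {p : ℕ} [hp : Fact p.Prime] [CharP (AlgInt ⧸ M) p]
variable {G : Type u} [Group G] [Fintype G]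

theorem sum_degree_chiL (X : MonoidAlgebra ℂ G) :
    ∑ χ : IrrCharacter G, χ.1 1 * chiL χ.1 X = (Nat.card G : ℂ) * X.coeff 1 := by
  simp only [chiL_eq_sum, Finset.mul_sum]
  rw [Finset.sum_comm, Finset.sum_eq_single (1 : G)]
  · rw [Finset.sum_congr rfl fun χ _ => show χ.1 1 * (X.coeff 1 * χ.1 1) = X.coeff 1 * (χ.1 1 * χ.1 1)
      by ring, ← Finset.mul_sum, Char.sum_irr_degree_mul, if_pos rfl, mul_comm]
  · intro g _ hg
    rw [Finset.sum_congr rfl fun χ _ => show χ.1 1 * (X.coeff g * χ.1 g) = X.coeff g * (χ.1 1 * χ.1 g)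
      by ring, ← Finset.mul_sum, Char.sum_irr_degree_mul, if_neg hg, mul_zero]
  · intro h; exact absurd (Finset.mem_univ _) h

theorem finrank_range_mulRight {X : MonoidAlgebra ℂ G} (hX : SCoeff M X) (hi : IsIdempotentElem X) :
    (Module.finrank (AlgInt ⧸ M) (LinearMap.range (LinearMap.mulRight (AlgInt ⧸ M) (redA M X))) : ℂ) =
      ∑ χ : IrrCharacter G, χ.1 1 * chiL χ.1 X := by
  rw [sum_degree_chiL]
  let A : Matrix G G (localInt M) := Matrix.of fun g y => ⟨X.coeff (y⁻¹ * g), hX _⟩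
  have hA : IsIdempotentElem A := by
    show A * A = A
    ext g y : 1
    apply Subtype.val_injective
    have h := congrArg (fun z => MonoidAlgebra.coeff z (y⁻¹ * g)) hi.eq
    simp only [coeff_mul_eq_sum] at h
    simp only [A, Matrix.mul_apply, Matrix.of_apply, AddSubmonoidClass.coe_finset_sum,
      MulMemClass.coe_mul]
    refine Eq.trans ?_ h
    refine Fintype.sum_equiv (Equiv.mulLeft y⁻¹) _ _ fun z => ?_
    simp only [Equiv.coe_mulLeft]
    rw [mul_comm]
    congr 2
    group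
  have hAC : IsIdempotentElem (A.map (localInt M).subtype) :=
    hA.map (localInt M).subtype.mapMatrix
  have hrank : ((A.map (redHom M)).rank : ℂ) = (Nat.card G : ℂ) * X.coeff 1 := by
    rw [rank_map_redHom_of_isIdempotentElem hA, rank_eq_trace hAC, Matrix.trace]
    simp [A, Nat.card_eq_fintype_card]
  rw [← hrank]
  congr 1
  have hcomp : (TwoChars.coordEquiv (k := AlgInt ⧸ M) (G := G)).toLinearMap ∘ₗ
      LinearMap.mulRight (AlgInt ⧸ M) (redA M X) =
      (A.map (redHom M)).mulVecLin ∘ₗ (TwoChars.coordEquiv (k := AlgInt ⧸ M) (G := G)).toLinearMap := by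
    refine LinearMap.ext fun z => funext fun g => ?_
    show (z * redA M X).coeff g = _
    rw [coeff_mul_eq_sum]
    simp only [LinearMap.comp_apply, Matrix.mulVecLin_apply, Matrix.mulVec, dotProduct,
      Matrix.map_apply, redHom_apply, coeff_redA, A, Matrix.of_apply]
    refine Finset.sum_congr rfl fun y _ => ?_
    rw [mul_comm]
    rfl
  have hmap := LinearMap.range_comp (LinearMap.mulRight (AlgInt ⧸ M) (redA M X))
    (TwoChars.coordEquiv (k := AlgInt ⧸ M) (G := G)).toLinearMap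
  rw [hcomp, LinearMap.range_comp, LinearEquiv.range, Submodule.map_top] at hmap
  rw [Matrix.rank, hmap]
  exact (LinearEquiv.finrank_map_eq _ _).symm

section Regular

variable (S : Simples (AlgInt ⧸ M) (MonoidAlgebra (AlgInt ⧸ M) G))

theorem exists_dec_ne_zero (i : Fin S.n) : ∃ χ : IrrCharacter G, dec S χ i ≠ 0 := by
  haveI : FiniteDimensional (AlgInt ⧸ M) (MonoidAlgebra (AlgInt ⧸ M) G) := TwoChars.moduleFinite
  by_contra hall
  push Not at hall
  obtain ⟨h1, h2, h3⟩ := prim_spec S i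
  have h := finrank_range_mulRight (M := M) h1 h2
  rw [Finset.sum_eq_zero fun χ _ => by rw [dec_spec, hall χ, Nat.cast_zero, mul_zero],
    Nat.cast_eq_zero, Submodule.finrank_eq_zero] at h
  have hne : redA M (prim S i) ≠ 0 := fun h0 => by
    have := S.rank_pi_diag i ⟨0, S.pos i⟩ i
    rw [← h3, h0, map_zero, Matrix.rank_zero, if_pos rfl] at this
    exact zero_ne_one this
  refine hne ?_
  have : LinearMap.mulRight (AlgInt ⧸ M) (redA M (prim S i)) 1 ∈
      LinearMap.range (LinearMap.mulRight (AlgInt ⧸ M) (redA M (prim S i))) := ⟨1, rfl⟩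
  rwa [h, Submodule.mem_bot, LinearMap.mulRight_apply, one_mul] at this

/-- For a group of order prime to `p` the Brauer characters are characters. -/
theorem isGeneralized_brauer_of_not_dvd (hpM : (p : AlgInt) ∈ M) (hG : ¬ p ∣ Nat.card G)
    (i : Fin S.n) : IsGeneralizedCharacter G (brauer p (S.π i)) := by
  haveI : FiniteDimensional (AlgInt ⧸ M) (MonoidAlgebra (AlgInt ⧸ M) G) := TwoChars.moduleFinite
  haveI : NeZero (Nat.card G : AlgInt ⧸ M) := ⟨by rwa [Ne, CharP.cast_eq_zero_iff _ p]⟩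
  have hJ : Ring.jacobson (MonoidAlgebra (AlgInt ⧸ M) G) = ⊥ := IsSemisimpleRing.jacobson_eq_bot _
  let f : MonoidAlgebra (AlgInt ⧸ M) G →ₐ[AlgInt ⧸ M]
      (∀ j, Matrix (Fin (S.d j)) (Fin (S.d j)) (AlgInt ⧸ M)) := AlgHom.pi fun j => S.π j
  have hf : Function.Bijective f := by
    refine ⟨(injective_iff_map_eq_zero f).2 fun x hx => ?_, fun y => ?_⟩
    · have := S.ker x fun j => congrFun hx j
      rwa [hJ, Submodule.mem_bot] at this
    · obtain ⟨x, hx⟩ := S.surj y
      exact ⟨x, funext hx⟩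
  have hdim : Nat.card G = ∑ j, S.d j * S.d j := by
    have h := (LinearEquiv.ofBijective f.toLinearMap hf).finrank_eq
    rw [Module.finrank_pi_fintype, TwoChars.coordEquiv.finrank_eq,
      Module.finrank_fintype_fun_eq_card, ← Nat.card_eq_fintype_card] at h
    rw [h]
    exact Finset.sum_congr rfl fun j _ => by simp [Module.finrank_matrix]
  set C : Fin S.n → Fin S.n → ℕ := fun a b => ∑ χ : IrrCharacter G, dec S χ a * dec S χ b with hC
  have hsum : ∑ a, ∑ b, S.d a * S.d b * C a b = ∑ j, S.d j * S.d j := by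
    rw [← hdim]
    have h1 := Char.sum_irr_degree_mul (1 : G)
    rw [if_pos rfl, Finset.sum_congr rfl fun χ _ => show χ.1 1 * χ.1 1 =
      ((∑ a, ∑ b, S.d a * S.d b * (dec S χ a * dec S χ b) : ℕ) : ℂ) by
        rw [degree_eq S hpM χ, Finset.sum_mul_sum]
        push_cast
        exact Finset.sum_congr rfl fun a _ => Finset.sum_congr rfl fun b _ => by ring] at h1
    have h2 : ∑ χ : IrrCharacter G, ∑ a, ∑ b, S.d a * S.d b * (dec S χ a * dec S χ b) = Nat.card G := by
      exact_mod_cast h1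
    rw [← h2]
    simp only [hC, Finset.mul_sum]
    rw [Finset.sum_comm (γ := IrrCharacter G)]
    exact Finset.sum_congr rfl fun a _ => Finset.sum_comm
  have hdiag : ∀ a, 1 ≤ C a a := fun a => by
    obtain ⟨χ, hχ⟩ := exists_dec_ne_zero S a
    exact le_trans (Nat.mul_pos (Nat.pos_of_ne_zero hχ) (Nat.pos_of_ne_zero hχ))
      (Finset.single_le_sum (f := fun χ => dec S χ a * dec S χ a) (fun _ _ => Nat.zero_le _)
        (Finset.mem_univ χ))
  have hC1 : ∀ a b, C a b = if a = b then 1 else 0 := by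
    have hle : ∀ a ∈ (Finset.univ : Finset (Fin S.n)), ∀ b ∈ (Finset.univ : Finset (Fin S.n)),
        S.d a * S.d b * (if a = b then 1 else 0) ≤ S.d a * S.d b * C a b := fun a _ b _ => by
      refine Nat.mul_le_mul_left _ ?_
      split_ifs with h
      · exact h ▸ hdiag a
      · exact Nat.zero_le _
    have heq : ∑ a, ∑ b, S.d a * S.d b * (if a = b then 1 else 0) =
        ∑ a, ∑ b, S.d a * S.d b * C a b := by
      rw [hsum]
      exact Finset.sum_congr rfl fun a _ => by simp
    intro a b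
    have h1 := (Finset.sum_eq_sum_iff_of_le fun a ha => Finset.sum_le_sum (hle a ha)).1 heq a
      (Finset.mem_univ a)
    have h2 := (Finset.sum_eq_sum_iff_of_le (hle a (Finset.mem_univ a))).1 h1 b (Finset.mem_univ b)
    exact (Nat.eq_of_mul_eq_mul_left (Nat.mul_pos (S.pos a) (S.pos b)) h2).symm
  have hexp : brauer p (S.π i) = ∑ χ : IrrCharacter G, ((dec S χ i : ℤ) : ℂ) • χ.1 := by
    funext g
    have hg : regPart (p := p) g = g :=
      regPart_of_regular fun hd => hG (hd.trans (orderOf_dvd_natCard g))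
    simp only [Finset.sum_apply, Pi.smul_apply, smul_eq_mul, Int.cast_natCast]
    calc brauer p (S.π i) g
        = ∑ j, (C i j : ℂ) * brauer p (S.π j) g := by simp [hC1]
      _ = ∑ χ : IrrCharacter G, (dec S χ i : ℂ) * χ.1 (regPart (p := p) g) := by
          simp only [hC, apply_regPart_eq S hpM, Nat.cast_sum, Nat.cast_mul, Finset.sum_mul,
            Finset.mul_sum, mul_assoc]
          exact Finset.sum_comm
      _ = _ := by rw [hg]
  rw [hexp]
  exact Char.isGeneralizedCharacter_sum_int_smul _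

end Regular

theorem isGeneralizedCharacter_brauer_of_not_dvd (hpM : (p : AlgInt) ∈ M) (hG : ¬ p ∣ Nat.card G)
    {n : ℕ} (ρ : MonoidAlgebra (AlgInt ⧸ M) G →ₐ[AlgInt ⧸ M] Matrix (Fin n) (Fin n) (AlgInt ⧸ M)) :
    IsGeneralizedCharacter G (brauer p ρ) := by
  haveI := isAlgClosed_residue (M := M)
  haveI : FiniteDimensional (AlgInt ⧸ M) (MonoidAlgebra (AlgInt ⧸ M) G) := TwoChars.moduleFinite
  obtain ⟨S⟩ := nonempty_simples (k := AlgInt ⧸ M) (R := MonoidAlgebra (AlgInt ⧸ M) G)
  rw [show brauer p ρ = ∑ i, ((S.mult ρ i : ℤ) : ℂ) • brauer p (S.π i) from funext fun g => by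
    simp [brauer_eq_sum ρ S hpM g]]
  exact Char.IsGeneralizedCharacter.sum _ fun i _ =>
    Char.IsGeneralizedCharacter.intCast_smul (isGeneralized_brauer_of_not_dvd S hpM hG i) _

theorem brauer_regPart {n : ℕ}
    (ρ : MonoidAlgebra (AlgInt ⧸ M) G →ₐ[AlgInt ⧸ M] Matrix (Fin n) (Fin n) (AlgInt ⧸ M)) (g : G) :
    brauer p ρ (regPart (p := p) g) = brauer p ρ g := by
  simp only [brauer, regPart_of_regular (isPRegular_regPart g)]

theorem eigIdem_map {H : Subgroup G} (s : H) (ζ : ℂ) :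
    inclA H (eigIdem s ζ) = eigIdem (s : G) ζ := by
  simp only [eigIdem, Subgroup.orderOf_coe]
  show MonoidAlgebra.mapDomain H.subtype _ = _
  rw [MonoidAlgebra.mapDomain_smul]
  congr 1
  rw [show MonoidAlgebra.mapDomain H.subtype (∑ t ∈ Finset.range (orderOf s),
    single (s ^ t) ((starRingEnd ℂ) ζ ^ t)) = inclA H (∑ t ∈ Finset.range (orderOf s),
    single (s ^ t) ((starRingEnd ℂ) ζ ^ t)) from rfl, map_sum]
  exact Finset.sum_congr rfl fun t _ => by rw [inclA_single, SubmonoidClass.coe_pow]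

/-- Restriction to a subgroup. -/
noncomputable def resRep (H : Subgroup G) {n : ℕ}
    (ρ : MonoidAlgebra (AlgInt ⧸ M) G →ₐ[AlgInt ⧸ M] Matrix (Fin n) (Fin n) (AlgInt ⧸ M)) :
    MonoidAlgebra (AlgInt ⧸ M) H →ₐ[AlgInt ⧸ M] Matrix (Fin n) (Fin n) (AlgInt ⧸ M) :=
  ρ.comp (MonoidAlgebra.mapDomainAlgHom (AlgInt ⧸ M) (AlgInt ⧸ M) H.subtype)

theorem redA_inclA' (H : Subgroup G) (z : MonoidAlgebra ℂ H) :
    redA M (inclA H z) =
      MonoidAlgebra.mapDomainAlgHom (AlgInt ⧸ M) (AlgInt ⧸ M) H.subtype (redA M z) := by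
  refine alg_ext fun x => ?_
  rw [coeff_redA]
  show red M ((inclA H z).coeff x) = (MonoidAlgebra.mapDomain H.subtype (redA M z)).coeff x
  by_cases hx : x ∈ H
  · rw [show x = ((⟨x, hx⟩ : H) : G) from rfl, coeff_inclA, ← coeff_redA (M := M)]
    exact (Finsupp.mapDomain_apply (f := ⇑H.subtype) H.subtype_injective _ _).symm
  · rw [coeff_inclA_of_notMem _ hx, red_zero]
    exact (Finsupp.mapDomain_notin_range (f := ⇑H.subtype) _ _ fun ⟨y, hy⟩ => hx (hy ▸ y.2)).symm

theorem brauer_resRep (hpM : (p : AlgInt) ∈ M) (H : Subgroup G) {n : ℕ}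
    (ρ : MonoidAlgebra (AlgInt ⧸ M) G →ₐ[AlgInt ⧸ M] Matrix (Fin n) (Fin n) (AlgInt ⧸ M)) (x : H) :
    brauer p (resRep H ρ) x = brauer p ρ (x : G) := by
  obtain ⟨E, -, hfix, hkill⟩ := exists_exponent (G := G) p 0
  obtain ⟨y, hy1, hy2, ⟨a, hy3⟩, hy4⟩ := Modular.regPart_spec (p := p) x
  have hr : regPart (p := p) (x : G) = ((regPart (p := p) x : H) : G) := by
    rw [← pow_exponent hfix hkill (x : G)]
    conv_lhs => rw [← hy1, Subgroup.coe_mul]
    have hc : Commute (y : G) ((regPart (p := p) x : H) : G) := hy2.map H.subtype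
    rw [hc.mul_pow, hkill _ ⟨a, by rw [Subgroup.orderOf_coe, hy3]⟩, hfix _ (by
      show ¬ p ∣ orderOf _
      rwa [Subgroup.orderOf_coe]), one_mul]
  simp only [brauer, hr, Subgroup.orderOf_coe]
  refine Finset.sum_congr rfl fun ζ _ => ?_
  rw [← eigIdem_map, redA_inclA']
  rfl

/-- The Brauer characters, extended through the regular part, are generalized characters. -/
theorem isGeneralizedCharacter_brauer (hpM : (p : AlgInt) ∈ M) {n : ℕ}
    (ρ : MonoidAlgebra (AlgInt ⧸ M) G →ₐ[AlgInt ⧸ M] Matrix (Fin n) (Fin n) (AlgInt ⧸ M)) :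
    IsGeneralizedCharacter G (brauer p ρ) := by
  refine Char.isGeneralizedCharacter_of_elementary
    (fun g a => brauer_conj ρ hpM a g) fun E q hq hE => ?_
  obtain ⟨R, T, hRT, hsup⟩ := Star.exists_isElem_decomp (p := p) hq hE
  have hmem : ∀ x : E, ∃ r ∈ R, ∃ t ∈ T, r * t = (x : G) := fun x =>
    hRT.mem_sup.1 (hsup ▸ x.2)
  choose r hr t ht hrt using hmem
  let π : E →* T := MonoidHom.mk' (fun x => ⟨t x, ht x⟩) fun x y => by
    refine Subtype.ext ?_
    refine (hRT.eq_of_mul_eq (hr (x * y)) (ht (x * y)) (mul_mem (hr x) (hr y))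
      (mul_mem (ht x) (ht y)) ?_).2
    rw [hrt, Subgroup.coe_mul, ← hrt x, ← hrt y]
    rw [mul_assoc, ← mul_assoc (t x), ← (hRT.commute (hr y) (ht x)).eq]
    simp only [mul_assoc]
  have hreg : ∀ x : E, brauer p (resRep T ρ) (π x) = brauer p ρ (x : G) := by
    intro x
    rw [brauer_resRep hpM, ← brauer_regPart ρ (x : G)]
    show brauer p ρ (t x) = _
    congr 1
    obtain ⟨N, -, hfix, hkill⟩ := exists_exponent (G := G) p 0
    rw [← pow_exponent hfix hkill (x : G), ← hrt x, (hRT.commute (hr x) (ht x)).mul_pow,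
      hkill _ (by
        obtain ⟨j, hj⟩ := IsPGroup.iff_orderOf.1 hRT.pR ⟨r x, hr x⟩
        exact ⟨j, by rw [← hj, Subgroup.orderOf_mk]⟩),
      hfix _ (fun hd => hRT.pS (hd.trans ((Subgroup.orderOf_mk (t x) (ht x)) ▸
        orderOf_dvd_natCard (⟨t x, ht x⟩ : T)))), one_mul]
  rw [show (fun x : E => brauer p ρ (x : G)) = fun x => brauer p (resRep T ρ) (π x) from
    funext fun x => (hreg x).symm]
  exact Char.IsGeneralizedCharacter.comp
    (isGeneralizedCharacter_brauer_of_not_dvd hpM hRT.pS (resRep T ρ)) π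

/-- The decomposition matrix has an integral left inverse. -/
theorem exists_left_inverse (hpM : (p : AlgInt) ∈ M)
    (S : Simples (AlgInt ⧸ M) (MonoidAlgebra (AlgInt ⧸ M) G)) :
    ∃ m : Fin S.n → IrrCharacter G → ℤ,
      (∀ i g, brauer p (S.π i) g = ∑ χ : IrrCharacter G, (m i χ : ℂ) * χ.1 g) ∧
      ∀ i j, ∑ χ : IrrCharacter G, m i χ * (dec S χ j : ℤ) = if i = j then 1 else 0 := by
  have hexp : ∀ i, ∃ c : IrrCharacter G → ℤ, ∀ g,
      brauer p (S.π i) g = ∑ χ : IrrCharacter G, (c χ : ℂ) * χ.1 g := fun i => by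
    obtain ⟨c, hc⟩ := Char.IsGeneralizedCharacter.exists_decomp
      (isGeneralizedCharacter_brauer hpM (S.π i))
    exact ⟨c, fun g => by rw [hc.1]; simp⟩
  choose m hm using hexp
  refine ⟨m, hm, fun i j => ?_⟩
  have h := eq_zero_of_sum_brauer S hpM
    (fun j => (∑ χ : IrrCharacter G, m i χ * (dec S χ j : ℤ)) - if i = j then 1 else 0) fun g => ?_
  · exact sub_eq_zero.1 (congrFun h j)
  push_cast
  simp only [sub_mul, Finset.sum_sub_distrib, ite_mul, one_mul, zero_mul, Finset.sum_ite_eq,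
    Finset.mem_univ, if_true]
  rw [sub_eq_zero]
  conv_rhs => rw [← brauer_regPart (S.π i) g, hm]
  simp only [apply_regPart_eq S hpM, Finset.mul_sum, Finset.sum_mul, mul_assoc]
  exact Finset.sum_comm

end Cfsg.Agent.BrauerChar
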