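import Cfsg.Agent.Lib.BrauerChar.Block
import Cfsg.Agent.Lib.Blocks.PPartDefect

/-!
# Blocks with equal degrees

* `eq_zero_of_sum_brauer_complex`: the Brauer characters are independent over `ℂ`.
* `sum_dec_mul_eq_zero`: projective indecomposable characters vanish at singular elements.
* `OneSimple.of_equal_degrees`: a block with equal degrees has one simple module, every member
  reduces to it, and the `p`-part of the number of members is at least the order of a defect group.
-/

set_option autoImplicit false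
set_option linter.unusedSectionVars false
set_option linter.style.haveILetI false
set_option synthInstance.maxHeartbeats 200000

namespace Cfsg.Agent.BrauerChar

open Cfsg Cfsg.Agent.Blocks MonoidAlgebra
open Cfsg.Agent.Modular (regPart isPRegular_regPart regPart_spec regPart_of_regular)
open Cfsg.Agent.BrauerPairs (blkG)
open scoped Classical Cfsg.Agent.Blocks ComplexConjugate

universe u

variable {M : Ideal AlgInt} [M.IsMaximal] {p : ℕ} [hp : Fact p.Prime] [CharP (AlgInt ⧸ M) p]
variable {G : Type u} [Group G] [Fintype G]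
variable (S : Simples (AlgInt ⧸ M) (MonoidAlgebra (AlgInt ⧸ M) G)) {B : Set (IrrCharacter G)}

/-- The Brauer characters are independent over `ℂ`. -/
theorem eq_zero_of_sum_brauer_complex (hpM : (p : AlgInt) ∈ M) (c : Fin S.n → ℂ)
    (h : ∀ g, IsPRegular p g → ∑ i, c i * brauer p (S.π i) g = 0) : c = 0 := by
  obtain ⟨m, hm, hinv⟩ := exists_left_inverse hpM S
  have hz : ∀ χ : IrrCharacter G, ∑ i, c i * (m i χ : ℂ) = 0 := by
    refine Fintype.linearIndependent_iff.1 Char.linearIndependent_irr _ (funext fun g => ?_)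
    have h1 := h _ (isPRegular_regPart (p := p) g)
    simp only [brauer_regPart] at h1
    simp only [hm, Finset.mul_sum] at h1
    rw [Finset.sum_comm] at h1
    simp only [Finset.sum_apply, Pi.smul_apply, smul_eq_mul, Pi.zero_apply, Finset.sum_mul]
    exact (Finset.sum_congr rfl fun χ _ => Finset.sum_congr rfl fun i _ => by ring).trans h1
  funext j
  calc c j = ∑ i, c i * (((if i = j then 1 else 0 : ℤ)) : ℂ) := by simp
    _ = ∑ i, ∑ χ : IrrCharacter G, c i * (m i χ : ℂ) * (dec S χ j : ℂ) := by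
      refine Finset.sum_congr rfl fun i _ => ?_
      rw [← hinv i j]
      push_cast
      rw [Finset.mul_sum]
      exact Finset.sum_congr rfl fun χ _ => by ring
    _ = _ := by
      rw [Finset.sum_comm]
      exact Finset.sum_eq_zero fun χ _ => by rw [← Finset.sum_mul, hz χ, zero_mul]

/-- Projective indecomposable characters vanish at singular elements. -/
theorem sum_dec_mul_eq_zero (hpM : (p : AlgInt) ∈ M) {y : G} (hy : ¬ IsPRegular p y) (i : Fin S.n) :
    ∑ χ : IrrCharacter G, (dec S χ i : ℂ) * conj (χ.1 y) = 0 := by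
  refine congrFun (eq_zero_of_sum_brauer_complex S hpM
    (fun j => ∑ χ : IrrCharacter G, (dec S χ j : ℂ) * conj (χ.1 y)) fun g hg => ?_) i
  have hne : ¬ IsConj g y := fun h => hy (by
    obtain ⟨c, rfl⟩ := isConj_iff.1 h
    show ¬ p ∣ orderOf _
    rwa [← MulAut.conj_apply, MulEquiv.orderOf_eq])
  have h := Char.sum_irr_mul_conj g y
  rw [if_neg hne] at h
  conv_lhs at h => arg 2; ext χ; rw [← regPart_of_regular hg, apply_regPart_eq S hpM, Finset.sum_mul]
  rw [Finset.sum_comm] at h
  simp only [Finset.sum_mul]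
  exact (Finset.sum_congr rfl fun j _ => Finset.sum_congr rfl fun χ _ => by ring).trans h

/-- A block all of whose members reduce to its one simple module. -/
structure OneSimple (B : Set (IrrCharacter G)) (i : Fin S.n) : Prop where
  inBlock : InBlock S B i
  only : ∀ j, j ≠ i → S.π j (blkG M B) = 0
  dec_one : ∀ χ ∈ B, dec S χ i = 1
  dec_zero : ∀ χ ∈ B, ∀ j, j ≠ i → dec S χ j = 0
  deg : ∀ χ ∈ B, Char.degree χ = S.d i

variable {S}

/-- A block with equal degrees has one simple module. -/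
theorem OneSimple.of_equal_degrees (hpM : (p : AlgInt) ∈ M) (hB : IsPBlock M B) {f : ℕ}
    (hf : ∀ χ ∈ B, Char.degree χ = f) : ∃ i, OneSimple S B i := by
  obtain ⟨χ₀, hχ₀⟩ := block_nonempty hB
  have hf0 : 0 < f := hf χ₀ hχ₀ ▸ Char.degree_pos χ₀
  have hinB : ∀ {χ}, χ ∈ B → ∀ {j}, dec S χ j ≠ 0 → InBlock S B j := fun hχ j hj =>
    of_not_not fun h => hj (dec_eq_zero_of_mem S hB hχ h)
  have hle : ∀ {j}, InBlock S B j → f ≤ S.d j := fun hj =>
    Nat.le_of_dvd (S.pos _) (dvd_simple_dim S hpM hB (fun χ hχ => (hf χ hχ).symm ▸ dvd_rfl) hj)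
  have hterm : ∀ {χ}, χ ∈ B → ∀ {j}, dec S χ j ≠ 0 →
      dec S χ j = 1 ∧ S.d j = f ∧ ∀ j', j' ≠ j → dec S χ j' = 0 := by
    intro χ hχ j hj
    have hsum := degree_eq_nat S hpM χ
    rw [hf χ hχ, ← Finset.add_sum_erase _ _ (Finset.mem_univ j)] at hsum
    have h1 := hle (hinB hχ hj)
    have h2 : S.d j ≤ dec S χ j * S.d j := Nat.le_mul_of_pos_left _ (Nat.pos_of_ne_zero hj)
    have hdj : S.d j = f := by omega
    refine ⟨?_, hdj, fun j' hj' => ?_⟩
    · refine le_antisymm (Nat.le_of_mul_le_mul_right ?_ (S.pos j)) (Nat.pos_of_ne_zero hj)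
      omega
    · have h3 : ∑ x ∈ Finset.univ.erase j, dec S χ x * S.d x = 0 := by omega
      exact (mul_eq_zero.1 ((Finset.sum_eq_zero_iff.1 h3) j'
        (Finset.mem_erase.2 ⟨hj', Finset.mem_univ _⟩))).resolve_right (S.pos j').ne'
  obtain ⟨i, hi⟩ : ∃ i, dec S χ₀ i ≠ 0 := by
    by_contra h
    push Not at h
    exact (Char.degree_pos χ₀).ne' ((degree_eq_nat S hpM χ₀).trans
      (Finset.sum_eq_zero fun j _ => by rw [h j, zero_mul]))
  have hiB := hinB hχ₀ hi
  set A : Set (IrrCharacter G) := {χ | χ ∈ B ∧ dec S χ i ≠ 0} with hA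
  have hA1 : ∀ χ ∈ A, ∀ g, IsPRegular p g → χ.1 g = brauer p (S.π i) g := by
    rintro χ ⟨hχ, hχi⟩ g hg
    obtain ⟨h1, -, h3⟩ := hterm hχ hχi
    rw [← regPart_of_regular hg, apply_regPart_eq S hpM, Finset.sum_eq_single i
      (fun j _ hj => by rw [h3 j hj]; simp) (fun h => absurd (Finset.mem_univ i) h), h1,
      regPart_of_regular hg]
    simp
  have hS : SCoeff M (blockIdem A) := by
    refine scoeff_of_weak_orthogonality hpM A fun x y hx hy => ?_
    rw [Finset.sum_congr rfl fun χ hχ => by rw [hA1 χ (Finset.mem_filter.1 hχ).2 x hx],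
      ← Finset.mul_sum]
    refine mul_eq_zero_of_right _ (Eq.trans ?_ (sum_dec_mul_eq_zero S hpM hy i))
    refine (Finset.sum_congr rfl fun χ hχ => ?_).trans
      (Finset.sum_subset (Finset.subset_univ _) fun χ _ hχ => ?_)
    · obtain ⟨hχB, hχi⟩ := (Finset.mem_filter.1 hχ).2
      rw [(hterm hχB hχi).1, Nat.cast_one, one_mul]
    · by_cases hχB : χ ∈ B
      · rw [show dec S χ i = 0 from of_not_not fun h => hχ
          (Finset.mem_filter.2 ⟨Finset.mem_univ _, hχB, h⟩)]
        simp
      · rw [dec_eq_zero_of_not_mem S hB hχB hiB]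
        simp
  have hall : ∀ χ ∈ B, dec S χ i ≠ 0 := fun χ hχ =>
    (blockOf_subset_of_scoeff hS (χ := χ₀) ⟨hχ₀, hi⟩ (sameBlock_of_mem hB hχ₀ hχ)).2
  refine ⟨i, hiB, fun j hj => ?_, fun χ hχ => (hterm hχ (hall χ hχ)).1,
    fun χ hχ => (hterm hχ (hall χ hχ)).2.2, fun χ hχ => by
      rw [hf χ hχ, (hterm hχ (hall χ hχ)).2.1]⟩
  refine (S.map_central j (idem_blockIdem_redA hB) (commute_blockIdem_redA hB)).resolve_right
    fun hjB => ?_
  obtain ⟨χ, hχ⟩ := exists_dec_ne_zero S j
  have hχB : χ ∈ B := of_not_not fun h => hχ (dec_eq_zero_of_not_mem S hB h hjB)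
  exact hχ ((hterm hχB (hall χ hχB)).2.2 j hj)

namespace OneSimple

variable {i : Fin S.n} (hi : OneSimple S B i)
include hi

theorem finrank_range_mulRight_le (hB : IsPBlock M B) :
    Module.finrank (AlgInt ⧸ M) (LinearMap.range (LinearMap.mulRight (AlgInt ⧸ M) (blkG M B))) ≤
      Nat.card B * S.d i ^ 2 := by
  have h := finrank_range_mulRight (M := M) (scoeff_blockIdem hB) (blockIdem_mul_self B)
  have hterm : ∀ χ : IrrCharacter G, χ.1 1 * chiL χ.1 (blockIdem B) =
      if χ ∈ B then ((S.d i ^ 2 : ℕ) : ℂ) else 0 := by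
    intro χ
    rw [← mul_one (blockIdem B), chiL_blockIdem_mul, chiL_one]
    split_ifs with hχ
    · rw [Char.apply_one_eq_degree, hi.deg χ hχ]; push_cast; ring
    · rw [mul_zero]
  rw [Finset.sum_congr rfl fun χ _ => hterm χ, ← Finset.sum_filter, Finset.sum_const,
    nsmul_eq_mul, ← Nat.cast_mul, Nat.cast_inj] at h
  refine (le_of_eq h).trans ?_
  rw [Nat.card_eq_fintype_card, Fintype.card_subtype]

/-- The order of a defect group divides the number of characters. -/
theorem pow_dvd_card (hB : IsPBlock M B) : p ^ blockDefect p B ∣ Nat.card B := by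
  obtain ⟨χ₀, hχ₀⟩ := block_nonempty hB
  have hproj : projDeg S i = Nat.card B * S.d i := by
    rw [projDeg_eq_block S hB hi.inBlock, Finset.sum_congr rfl fun χ hχ => by
      rw [hi.dec_one χ (Finset.mem_filter.1 hχ).2, one_mul, hi.deg χ (Finset.mem_filter.1 hχ).2],
      Finset.sum_const, smul_eq_mul, Nat.card_eq_fintype_card, Fintype.card_subtype]
  have hdefect : blockDefect p B =
      (Nat.card G).factorization p - (S.d i).factorization p := by
    rw [blockDefect]
    congr 1
    refine le_antisymm (Nat.sInf_le ⟨χ₀, hχ₀, ?_⟩) (le_csInf ⟨_, χ₀, hχ₀, rfl⟩ ?_)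
    · show (charDegree χ₀.1).factorization p = _
      rw [charDegree_eq, hi.deg χ₀ hχ₀]
    · rintro _ ⟨χ, hχ, rfl⟩
      simp only [charDegree_eq, hi.deg χ hχ, le_refl]
  have h := pow_dvd_projDeg (p := p) S i
  have hne : Nat.card B ≠ 0 := fun h0 => (projDeg_pos S i).ne' (by rw [hproj, h0, zero_mul])
  rw [hproj, hp.out.pow_dvd_iff_le_factorization (mul_ne_zero hne (S.pos i).ne'),
    Nat.factorization_mul hne (S.pos i).ne', Finsupp.add_apply] at h
  rw [hp.out.pow_dvd_iff_le_factorization hne, hdefect]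
  omega

/-- The residue of a member is the trace of the simple module. -/
theorem red_apply (hpM : (p : AlgInt) ∈ M) {χ : IrrCharacter G} (hχ : χ ∈ B) (g : G) :
    red M (χ.1 g) = (S.π i (single g 1)).trace := by
  obtain ⟨x, hx1, hx2, ⟨a, hx3⟩, -⟩ := regPart_spec (p := p) g
  have hint := fun a => memLocalRing_of_isIntegral (M := M)
    (CharInt.isIntegral_char (Char.irr_isCharacter χ) a)
  have h1 : red M (χ.1 g) = red M (χ.1 (regPart (p := p) g)) := by
    conv_lhs => rw [← hx1]
    rw [red_eq_iff (hint _) (hint _)]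
    exact memLocalIdeal_char_mul_sub hpM (Char.irr_isCharacter χ) hx2 hx3
  rw [h1, apply_regPart_eq S hpM, Finset.sum_eq_single i
    (fun j _ hj => by rw [hi.dec_zero χ hχ j hj]; simp) (fun h => absurd (Finset.mem_univ i) h),
    hi.dec_one χ hχ, Nat.cast_one, one_mul]
  exact (red_brauer (S.π i) hpM g).2

end OneSimple

end Cfsg.Agent.BrauerChar
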