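import Cfsg.Agent.Lib.Blocks.LocalRankTwo
import Mathlib.LinearAlgebra.Matrix.Rank

/-!
# Ranks of idempotents in representations

* `Simples`: the simple quotients of a finite dimensional algebra over an algebraically closed field.
* `Simples.rank_eq`: in every matrix representation the rank of an idempotent is a combination of
  its ranks in the simple quotients, with coefficients `Simples.mult` depending on the
  representation only.
-/

set_option autoImplicit false
set_option linter.style.haveILetI false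

namespace Cfsg.Agent.BrauerChar

open Cfsg.Agent.Blocks.LocalRankTwo (isArtinian isNilpotent_of_mem)
open scoped Classical

universe v w

variable {k : Type v} [Field k]

/-- An idempotent matrix factors through its range. -/
theorem exists_factor {d : ℕ} {P : Matrix (Fin d) (Fin d) k} (hP : IsIdempotentElem P) :
    ∃ (U : Matrix (Fin d) (Fin P.rank) k) (V : Matrix (Fin P.rank) (Fin d) k),
      P = U * V ∧ V * U = 1 := by
  set W := LinearMap.range P.mulVecLin
  let b : Module.Basis (Fin P.rank) k W := Module.finBasis k W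
  let u : (Fin P.rank → k) →ₗ[k] (Fin d → k) := W.subtype ∘ₗ b.equivFun.symm.toLinearMap
  let v : (Fin d → k) →ₗ[k] (Fin P.rank → k) := b.equivFun.toLinearMap ∘ₗ P.mulVecLin.rangeRestrict
  refine ⟨LinearMap.toMatrix' u, LinearMap.toMatrix' v, ?_, ?_⟩
  · rw [← LinearMap.toMatrix'_comp,
      show u ∘ₗ v = Matrix.toLin' P from LinearMap.ext fun x => by simp [u, v],
      LinearMap.toMatrix'_toLin']
  · have hfix : ∀ w : W, P.mulVecLin.rangeRestrict (w : Fin d → k) = w := by
      rintro ⟨w, x, rfl⟩
      refine Subtype.ext ?_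
      show P.mulVec (P.mulVec x) = P.mulVec x
      rw [Matrix.mulVec_mulVec, hP.eq]
    rw [← LinearMap.toMatrix'_comp,
      show v ∘ₗ u = LinearMap.id from LinearMap.ext fun x => by
        simp only [u, v, LinearMap.comp_apply, Submodule.subtype_apply, LinearEquiv.coe_coe, hfix,
          LinearEquiv.apply_symm_apply, LinearMap.id_apply],
      LinearMap.toMatrix'_id]

theorem rank_add_of_mul_eq_zero {d : ℕ} {P Q : Matrix (Fin d) (Fin d) k} (hP : IsIdempotentElem P)
    (hQ : IsIdempotentElem Q) (hPQ : P * Q = 0) (hQP : Q * P = 0) :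
    (P + Q).rank = P.rank + Q.rank := by
  have hrange : LinearMap.range (P + Q).mulVecLin =
      LinearMap.range P.mulVecLin ⊔ LinearMap.range Q.mulVecLin := by
    refine le_antisymm ?_ (sup_le ?_ ?_)
    · rintro _ ⟨x, rfl⟩
      rw [Matrix.mulVecLin_add, LinearMap.add_apply]
      exact add_mem (Submodule.mem_sup_left ⟨x, rfl⟩) (Submodule.mem_sup_right ⟨x, rfl⟩)
    · rintro _ ⟨x, rfl⟩
      exact ⟨P.mulVec x, by simp [Matrix.mulVec_mulVec, add_mul, hP.eq, hQP]⟩
    · rintro _ ⟨x, rfl⟩
      exact ⟨Q.mulVec x, by simp [Matrix.mulVec_mulVec, add_mul, hQ.eq, hPQ]⟩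
  have hinf : LinearMap.range P.mulVecLin ⊓ LinearMap.range Q.mulVecLin = ⊥ := by
    refine (Submodule.eq_bot_iff _).2 fun z hz => ?_
    obtain ⟨⟨x, hx⟩, y, hy⟩ := Submodule.mem_inf.1 hz
    simp only [Matrix.mulVecLin_apply] at hx hy
    have h1 : P.mulVec z = z := by rw [← hx, Matrix.mulVec_mulVec, hP.eq]
    rw [← h1, ← hy, Matrix.mulVec_mulVec, hPQ, Matrix.zero_mulVec]
  have h := Submodule.finrank_sup_add_finrank_inf_eq (LinearMap.range P.mulVecLin)
    (LinearMap.range Q.mulVecLin)
  rw [hinf, finrank_bot, add_zero, ← hrange] at h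
  exact h

variable {R : Type w} [Ring R] [Algebra k R]

theorem rank_sum_orth {d : ℕ} (ρ : R →ₐ[k] Matrix (Fin d) (Fin d) k) {I : Type*} (s : Finset I)
    {η : I → R} (hη : OrthogonalIdempotents η) :
    (ρ (∑ i ∈ s, η i)).rank = ∑ i ∈ s, (ρ (η i)).rank := by
  induction s using Finset.induction_on with
  | empty => simp
  | insert a s ha ih =>
    rw [Finset.sum_insert ha, Finset.sum_insert ha, map_add, ← ih]
    refine rank_add_of_mul_eq_zero ((hη.idem a).map ρ) (hη.isIdempotentElem_sum.map ρ) ?_ ?_
    · rw [← map_mul, Finset.mul_sum,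
        Finset.sum_eq_zero fun i hi => hη.ortho (show a ≠ i from fun h => ha (h ▸ hi)), map_zero]
    · rw [← map_mul, Finset.sum_mul,
        Finset.sum_eq_zero fun i hi => hη.ortho (show i ≠ a from fun h => ha (h ▸ hi)), map_zero]

variable (k R) in
/-- The simple quotients. -/
structure Simples where
  /-- The number of simple quotients. -/
  n : ℕ
  /-- Their dimensions. -/
  d : Fin n → ℕ
  pos : ∀ i, 0 < d i
  /-- The quotient maps. -/
  π : ∀ i, R →ₐ[k] Matrix (Fin (d i)) (Fin (d i)) k
  surj : ∀ f : ∀ i, Matrix (Fin (d i)) (Fin (d i)) k, ∃ x, ∀ i, π i x = f i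
  ker : ∀ x, (∀ i, π i x = 0) → x ∈ Ring.jacobson R

variable [FiniteDimensional k R]

theorem nonempty_simples [IsAlgClosed k] : Nonempty (Simples k R) := by
  haveI := isArtinian k R
  obtain ⟨n, d, hd, ⟨e⟩⟩ :=
    IsSemisimpleRing.exists_algEquiv_pi_matrix_of_isAlgClosed k (R ⧸ Ring.jacobson R)
  refine ⟨⟨n, d, fun i => Nat.pos_of_ne_zero (hd i).ne, fun i =>
    (Pi.evalAlgHom k (fun i => Matrix (Fin (d i)) (Fin (d i)) k) i).comp
      (e.toAlgHom.comp (Ideal.Quotient.mkₐ k (Ring.jacobson R))), fun f => ?_, fun x hx => ?_⟩⟩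
  · obtain ⟨x, hx⟩ := Ideal.Quotient.mk_surjective (e.symm f)
    exact ⟨x, fun i => by
      show e (Ideal.Quotient.mk _ x) i = _
      rw [hx, e.apply_symm_apply]⟩
  · refine Ideal.Quotient.eq_zero_iff_mem.1 (e.injective ?_)
    rw [map_zero]
    exact funext hx

namespace Simples

variable (S : Simples k R)

theorem isUnit_of_map_eq_one {x : R} (h : ∀ i, S.π i x = 1) : IsUnit x := by
  have := (isNilpotent_of_mem k (S.ker (x - 1) fun i => by rw [map_sub, h, map_one, sub_self])).isUnit_one_add
  simpa using this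

/-- Idempotents with factoring images have comparable ranks in every representation. -/
theorem rank_le {m : ℕ} (ρ : R →ₐ[k] Matrix (Fin m) (Fin m) k) {ε η X Y : R}
    (hε : IsIdempotentElem ε) (h : ∀ i, S.π i ε = S.π i (X * η * Y)) :
    (ρ ε).rank ≤ (ρ η).rank := by
  set z := ε * (X * η * Y) * ε with hz
  obtain ⟨u, hu⟩ := S.isUnit_of_map_eq_one (x := z + (1 - ε)) fun i => by
    rw [hz, map_add, map_mul, map_mul, ← h i, ((hε.map (S.π i))).eq, ((hε.map (S.π i))).eq, map_sub,
      map_one, add_sub_cancel]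
  have hεu : ε * u = z := by
    rw [hu, mul_add, mul_sub, mul_one, hε.eq, sub_self, add_zero, hz]
    simp only [← mul_assoc, hε.eq]
  have h1 : ρ ε = ρ z * ρ ↑u⁻¹ := by rw [← map_mul, ← hεu, mul_assoc, Units.mul_inv, mul_one]
  have h2 : ρ z = ρ (ε * X) * ρ η * ρ (Y * ε) := by simp only [hz, map_mul, mul_assoc]
  rw [h1, h2]
  exact (Matrix.rank_mul_le_left _ _).trans
    ((Matrix.rank_mul_le_left _ _).trans (Matrix.rank_mul_le_right _ _))

theorem exists_units_lift :
    ∃ η : (Σ i, Fin (S.d i)) → R, CompleteOrthogonalIdempotents η ∧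
      ∀ ia i, S.π i (η ia) = (Pi.single (M := fun i => Matrix (Fin (S.d i)) (Fin (S.d i)) k) ia.1
        (Matrix.single ia.2 ia.2 1)) i := by
  let f : R →+* (∀ i, Matrix (Fin (S.d i)) (Fin (S.d i)) k) := RingHom.pi fun i => (S.π i).toRingHom
  let el : (Σ i, Fin (S.d i)) → ∀ i, Matrix (Fin (S.d i)) (Fin (S.d i)) k := fun ia =>
    Pi.single ia.1 (Matrix.single ia.2 ia.2 1)
  have hel : CompleteOrthogonalIdempotents el := by
    rw [CompleteOrthogonalIdempotents.iff_ortho_complete]
    refine ⟨?_, funext fun j => ?_⟩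
    · rintro ⟨i, a⟩ ⟨j, b⟩ hne
      funext l
      by_cases hij : i = j
      · subst hij
        by_cases hl : l = i
        · subst hl
          have hab : a ≠ b := fun h => hne (by rw [h])
          simp only [el, Pi.mul_apply, Pi.single_eq_same, Pi.zero_apply]
          exact Matrix.single_mul_single_of_ne (h := hab) ..
        · simp [el, Pi.single_eq_of_ne hl]
      · by_cases hl : l = i
        · subst hl
          simp [el, Pi.single_eq_of_ne hij]
        · simp [el, Pi.single_eq_of_ne hl]
    · rw [Finset.sum_apply, Fintype.sum_sigma, Finset.sum_eq_single j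
        (fun i _ hi => Finset.sum_eq_zero fun a _ => by simp [el, Pi.single_eq_of_ne (Ne.symm hi)])
        (fun h => absurd (Finset.mem_univ j) h)]
      simp only [el, Pi.single_eq_same, Pi.one_apply]
      ext a b
      rw [Matrix.sum_apply, Matrix.one_apply]
      by_cases hab : a = b
      · subst hab
        rw [Finset.sum_eq_single a (fun c _ hc => by simp [hc])
          (fun h => absurd (Finset.mem_univ _) h)]
        simp
      · rw [if_neg hab]
        exact Finset.sum_eq_zero fun c _ => by
          rw [Matrix.single_apply, if_neg]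
          exact fun h => hab (h.1.symm.trans h.2)
  obtain ⟨η, hη, hfη⟩ := CompleteOrthogonalIdempotents.lift_of_isNilpotent_ker f
    (fun x hx => isNilpotent_of_mem k (S.ker x fun i => congrFun (hx : f x = 0) i)) hel fun ia => by
      obtain ⟨x, hx⟩ := S.surj (el ia)
      exact ⟨x, funext hx⟩
  exact ⟨η, hη, fun ia i => congrFun (congrFun hfη ia) i⟩

/-- Lifts of the diagonal matrix units. -/
noncomputable def diag : (Σ i, Fin (S.d i)) → R := S.exists_units_lift.choose

theorem diag_spec : CompleteOrthogonalIdempotents S.diag ∧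
    ∀ ia i, S.π i (S.diag ia) = (Pi.single (M := fun i => Matrix (Fin (S.d i)) (Fin (S.d i)) k) ia.1
      (Matrix.single ia.2 ia.2 1)) i :=
  S.exists_units_lift.choose_spec

/-- The multiplicity of a simple quotient in a representation. -/
noncomputable def mult {m : ℕ} (ρ : R →ₐ[k] Matrix (Fin m) (Fin m) k) (i : Fin S.n) : ℕ :=
  (ρ (S.diag ⟨i, ⟨0, S.pos i⟩⟩)).rank

theorem rank_diag {m : ℕ} (ρ : R →ₐ[k] Matrix (Fin m) (Fin m) k) (i : Fin S.n) (a : Fin (S.d i)) :
    (ρ (S.diag ⟨i, a⟩)).rank = S.mult ρ i := by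
  obtain ⟨hη, hπ⟩ := S.diag_spec
  have key : ∀ a b : Fin (S.d i), (ρ (S.diag ⟨i, a⟩)).rank ≤ (ρ (S.diag ⟨i, b⟩)).rank := fun a b => by
    obtain ⟨X, hX⟩ := S.surj (Pi.single i (Matrix.single a b 1))
    obtain ⟨Y, hY⟩ := S.surj (Pi.single i (Matrix.single b a 1))
    refine S.rank_le ρ (X := X) (Y := Y) (hη.idem _) fun j => ?_
    rw [map_mul, map_mul, hX, hY, hπ, hπ]
    by_cases hj : j = i
    · subst hj
      simp
    · simp [Pi.single_eq_of_ne hj]
  exact le_antisymm (key _ _) (key _ _)

/-- The rank of an idempotent in a representation. -/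
theorem rank_eq {m : ℕ} (ρ : R →ₐ[k] Matrix (Fin m) (Fin m) k) {ε : R} (hε : IsIdempotentElem ε) :
    (ρ ε).rank = ∑ i, (S.π i ε).rank * S.mult ρ i := by
  obtain ⟨hη, hπ⟩ := S.diag_spec
  have hfac := fun i => exists_factor (hε.map (S.π i))
  choose U V hUV hVU using hfac
  have hle : ∀ i, (S.π i ε).rank ≤ S.d i := fun i => Matrix.rank_le_width _
  let T : Finset (Σ i, Fin (S.d i)) := Finset.univ.filter fun ia => ia.2.1 < (S.π ia.1 ε).rank
  set η' := ∑ ia ∈ T, S.diag ia with hη'
  let I : ∀ i, Matrix (Fin (S.d i)) (Fin (S.π i ε).rank) k := fun i =>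
    Matrix.of fun a b => if a.1 = b.1 then 1 else 0
  have hπη : ∀ i, S.π i η' = I i * (I i).transpose := by
    intro i
    rw [hη', map_sum]
    ext a b
    rw [Matrix.sum_apply, Matrix.mul_apply]
    simp only [hπ, I, Matrix.transpose_apply, Matrix.of_apply, mul_ite, mul_one, mul_zero]
    by_cases hab : a = b ∧ a.1 < (S.π i ε).rank
    · obtain ⟨rfl, ha⟩ := hab
      rw [Finset.sum_eq_single (⟨i, a⟩ : Σ i, Fin (S.d i)),
        Finset.sum_eq_single (⟨a.1, ha⟩ : Fin (S.π i ε).rank)]
      · simp
      · exact fun c _ hc => if_neg fun h => hc (Fin.ext h.symm)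
      · exact fun h => absurd (Finset.mem_univ _) h
      · rintro ⟨j, c⟩ - hne
        by_cases hj : i = j
        · subst hj
          have hc : c ≠ a := fun h => hne (by rw [h])
          simp [hc]
        · simp [Pi.single_eq_of_ne hj]
      · exact fun h => absurd (by simp [T, ha]) h
    · rw [Finset.sum_eq_zero, Finset.sum_eq_zero]
      · intro c _
        by_cases h2 : b.1 = c.1
        · rw [if_pos h2, if_neg]
          exact fun h1 => hab ⟨Fin.ext (h1.trans h2.symm), h1 ▸ c.2⟩
        · rw [if_neg h2]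
      · rintro ⟨j, c⟩ hc
        by_cases hj : i = j
        · subst hj
          rw [Pi.single_eq_same, Matrix.single_apply, if_neg]
          exact fun h => hab ⟨h.1.symm.trans h.2, h.1 ▸ (Finset.mem_filter.1 hc).2⟩
        · simp [Pi.single_eq_of_ne hj]
  have hII : ∀ i, (I i).transpose * I i = 1 := by
    intro i
    ext a b
    rw [Matrix.mul_apply, Matrix.one_apply]
    simp only [I, Matrix.transpose_apply, Matrix.of_apply]
    rw [Finset.sum_eq_single (⟨a.1, a.2.trans_le (hle i)⟩ : Fin (S.d i))]
    · simp [Fin.ext_iff]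
    · intro c _ hc
      rw [if_neg fun h => hc (Fin.ext h), zero_mul]
    · exact fun h => absurd (Finset.mem_univ _) h
  obtain ⟨X, hX⟩ := S.surj fun i => U i * (I i).transpose
  obtain ⟨Y, hY⟩ := S.surj fun i => I i * V i
  have hε' : IsIdempotentElem η' := hη.toOrthogonalIdempotents.isIdempotentElem_sum
  have h1 : (ρ ε).rank = (ρ η').rank := by
    refine le_antisymm (S.rank_le ρ (X := X) (Y := Y) hε fun i => ?_)
      (S.rank_le ρ (X := Y) (Y := X) hε' fun i => ?_)
    · rw [map_mul, map_mul, hX, hY, hπη,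
        show U i * (I i).transpose * (I i * (I i).transpose) * (I i * V i) =
          U i * ((I i).transpose * I i) * ((I i).transpose * I i) * V i by simp only [Matrix.mul_assoc],
        hII, Matrix.mul_one, Matrix.mul_one, ← hUV]
    · rw [map_mul, map_mul, hX, hY, hπη]
      have key : ∀ P, P = U i * V i →
          I i * (I i).transpose = I i * V i * P * (U i * (I i).transpose) := by
        rintro P rfl
        rw [show I i * V i * (U i * V i) * (U i * (I i).transpose) =
          I i * (V i * U i) * (V i * U i) * (I i).transpose by simp only [Matrix.mul_assoc], hVU,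
          Matrix.mul_one, Matrix.mul_one]
      exact key _ (hUV i)
  rw [h1, hη', rank_sum_orth ρ T hη.toOrthogonalIdempotents, Finset.sum_filter, Fintype.sum_sigma]
  refine Finset.sum_congr rfl fun i _ => ?_
  simp only [rank_diag]
  rw [← Finset.sum_filter, Finset.sum_const, smul_eq_mul]
  congr 1
  have : Finset.univ.filter (fun a : Fin (S.d i) => a.1 < (S.π i ε).rank) =
      Finset.univ.image (Fin.castLE (hle i)) := by
    ext a
    simp only [Finset.mem_filter, Finset.mem_univ, true_and, Finset.mem_image]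
    exact ⟨fun h => ⟨⟨a.1, h⟩, rfl⟩, fun ⟨b, hb⟩ => hb ▸ b.2⟩
  rw [this, Finset.card_image_of_injective _ (Fin.castLE_injective (hle i)), Finset.card_univ,
    Fintype.card_fin]

theorem dim_eq {m : ℕ} (ρ : R →ₐ[k] Matrix (Fin m) (Fin m) k) :
    m = ∑ i, S.d i * S.mult ρ i := by
  have h := S.rank_eq ρ (IsIdempotentElem.one (M := R))
  simpa [Matrix.rank_one] using h

end Simples

end Cfsg.Agent.BrauerChar
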